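import Cfsg.Agent.H353.TwoLong_m3
import Cfsg.Agent.H163.PG.Few_m3
import Mathlib.GroupTheory.Perm.Cycle.Basic
import Mathlib.GroupTheory.Perm.Cycle.Type
import Cfsg.Agent.H124.SUThreeEig
import Cfsg.Agent.S0815
import Cfsg.Agent.S0676
import Mathlib.GroupTheory.SpecificGroups.Cyclic
import Cfsg.Agent.ClassicalGeometry.PSL2Basic
import Cfsg.Agent.S0243
import Cfsg.Agent.S2602
import Cfsg.Agent.S2119
import Cfsg.Agent.S4145
import Cfsg.Agent.Prune
set_option linter.all false

section
prune_inst 0x7f00000000000000000000000000000000000000000000000000000000000000000000000000000000000000000000000000000000000000000000000000000000000000000000000000000000000000003fffffffffffffffffffffffffffbeffbdffffffff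

-- part: H499/TTPsu
section
set_option linter.all false
open scoped Cfsg.Agent.FastGrp

-- part: H499/TTBase
section
/-!
# Consumers of the list of 2-transitive groups: generalities (helper499)

* `Hub` : the classification of the 2-transitive groups with non-abelian socle, as a hypothesis;
* `AS.index_dvd_out`, `AS.eq_top` : `|G : T|` divides `|Out T|`;
* `AS.two_dvd_index` : an odd permutation forces `|G : T|` to be even;
* `AS.alt_le_range` : order `n! / 2` gives the alternating group.
-/

set_option autoImplicit false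

namespace Cfsg.Agent.H499.TT

open MulAction Cfsg.Agent.H384.TwoTrans

universe u v w

/-- the classification of the 2-transitive groups with non-abelian socle, as a hypothesis -/
def Hub : Prop :=
  ∀ (G : Type u) (Ω : Type v) [Group G] [MulAction G Ω] (T : Subgroup G), AS G Ω T → Known2 ↥T (Nat.card Ω)

section

variable {G : Type u} {Ω : Type v} [Group G] [MulAction G Ω] {T : Subgroup G}

theorem index_dvd_out (A : AS G Ω T) {S : Type w} [Group S] (e : ↥T ≃* S) : T.index ∣ Nat.card (Cfsg.Out S) := by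
  have := A.normal
  rw [← Cfsg.Agent.H163.PG.ker_toOut T e A.cent, Subgroup.index_ker]
  exact Subgroup.card_subgroup_dvd_card _

theorem eq_top (A : AS G Ω T) {S : Type w} [Group S] (e : ↥T ≃* S) (h : Nat.card (Cfsg.Out S) = 1) : T = ⊤ := by
  rw [← Subgroup.index_eq_one]
  have := index_dvd_out A e
  rw [h] at this
  exact Nat.dvd_one.1 this

theorem card_eq (A : AS G Ω T) {S : Type w} [Group S] (e : ↥T ≃* S) : Nat.card G = Nat.card S * T.index := by
  rw [← T.card_mul_index, Nat.card_congr e.toEquiv]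

theorem mem_of_coprime (A : AS G Ω T) {S : Type w} [Group S] (e : ↥T ≃* S) {g : G}
    (hg : (orderOf g).Coprime (Nat.card (Cfsg.Out S))) : g ∈ T := by
  have := A.normal
  exact Cfsg.Agent.H163.PG.mem_of_coprime T e A.cent hg

theorem pow_mem (A : AS G Ω T) {k : ℕ} (hk : T.index ∣ k) (g : G) : g ^ k ∈ T := by
  have := A.normal
  obtain ⟨m, rfl⟩ := hk
  rw [pow_mul]
  exact T.pow_mem (T.pow_index_mem g) m

/-- an odd permutation forces the index of the socle to be even -/
theorem two_dvd_index [Fintype Ω] [DecidableEq Ω] (A : AS G Ω T) {g : G}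
    (hg : Equiv.Perm.sign (MulAction.toPermHom G Ω g) = -1) : 2 ∣ T.index := by
  have hfin := A.finG
  let f : G →* ℤˣ := Equiv.Perm.sign.comp (MulAction.toPermHom G Ω)
  have hfg : f g = -1 := hg
  have hne : f.ker ≠ ⊥ := by
    intro h
    have hinj : Function.Injective f := (MonoidHom.ker_eq_bot_iff f).1 h
    apply A.nonab
    refine ⟨⟨fun a b => ?_⟩⟩
    apply Subtype.ext
    apply hinj
    show f ((a : G) * b) = f ((b : G) * a)
    rw [map_mul, map_mul, mul_comm]
  have h1 : T ≤ f.ker := A.le_of_normal f.ker inferInstance hne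
  have h2 : f.ker.index = 2 := by
    rw [Subgroup.index_ker]
    have h3 : f.range = ⊤ := by
      rw [eq_top_iff]
      intro x _
      rcases Int.units_eq_one_or x with rfl | rfl
      · exact one_mem _
      · exact ⟨g, hfg⟩
    rw [h3, Subgroup.card_top, Nat.card_eq_fintype_card]
    rfl
  rw [← h2]
  exact Subgroup.index_dvd_of_le h1

/-- the order determines the alternating group -/
theorem alt_le_range [Fintype Ω] [DecidableEq Ω] (A : AS G Ω T) (h : 2 * Nat.card T = (Nat.card Ω).factorial) :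
    alternatingGroup Ω ≤ (MulAction.toPermHom G Ω).range := by
  have hfin := A.finG
  have hfaith := A.faithful
  have hinj : Function.Injective (MulAction.toPermHom G Ω) := MulAction.toPerm_injective
  have h1 : Nat.card (T.map (MulAction.toPermHom G Ω)) = Nat.card T :=
    Nat.card_congr (T.equivMapOfInjective _ hinj).symm.toEquiv
  have h2 := (T.map (MulAction.toPermHom G Ω)).card_mul_index
  rw [h1, Nat.card_perm, ← h, mul_comm 2] at h2
  have h3 : (T.map (MulAction.toPermHom G Ω)).index = 2 := Nat.eq_of_mul_eq_mul_left Nat.card_pos h2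
  rw [← Equiv.Perm.eq_alternatingGroup_of_index_eq_two h3]
  rintro _ ⟨t, -, rfl⟩
  exact ⟨t, rfl⟩

end

end Cfsg.Agent.H499.TT
end

-- part: H499/TTCycle
section
/-!
# Long cycles in 2-transitive groups (helper499)

* `full_cycle` : an element whose powers are transitive on `n ≥ 2` points has order `n` and is an `n`-cycle;
* `point_cycle` : an element fixing `a` whose powers are transitive on the other points (`n ≥ 3`) has order `n - 1`.
-/

set_option autoImplicit false

namespace Cfsg.Agent.H499.TT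

open MulAction Cfsg.Agent.H384.TwoTrans

universe u v w

theorem isCycle_of {Ω : Type v} [Fintype Ω] [DecidableEq Ω] (σ : Equiv.Perm Ω) (s : Finset Ω) (hs : 1 < s.card)
    (h1 : ∀ x, x ∉ s → σ x = x) (h2 : ∀ x ∈ s, ∀ y ∈ s, ∃ k : ℤ, (σ ^ k) x = y) : σ.IsCycle ∧ σ.support = s := by
  have hmove : ∀ x ∈ s, σ x ≠ x := by
    intro x hx hfix
    obtain ⟨y, hy, hyx⟩ := Finset.exists_mem_ne hs x
    obtain ⟨k, hk⟩ := h2 x hx y hy
    have h3 : (σ ^ k) x = x := Equiv.Perm.zpow_apply_eq_self_of_apply_eq_self hfix k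
    exact hyx (hk.symm.trans h3)
  constructor
  · obtain ⟨x, hx⟩ : s.Nonempty := Finset.card_pos.1 (by omega)
    refine ⟨x, hmove x hx, ?_⟩
    intro y hy
    have hys : y ∈ s := by
      by_contra hcon
      exact hy (h1 y hcon)
    exact h2 x hx y hys
  · ext x
    rw [Equiv.Perm.mem_support]
    constructor
    · intro hx
      by_contra hcon
      exact hx (h1 x hcon)
    · exact hmove x

section

variable {G : Type u} {Ω : Type v} [Group G] [MulAction G Ω]

theorem toPermHom_zpow_apply (g : G) (k : ℤ) (x : Ω) : (MulAction.toPermHom G Ω g ^ k) x = g ^ k • x := by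
  rw [← map_zpow]
  rfl

theorem full_cycle' [Fintype Ω] [DecidableEq Ω] {g : G} (hn : 2 ≤ Fintype.card Ω)
    (hg : MulAction.IsPretransitive (Subgroup.zpowers g) Ω) :
    (MulAction.toPermHom G Ω g).IsCycle ∧ (MulAction.toPermHom G Ω g).support = Finset.univ := by
  apply isCycle_of
  · rw [Finset.card_univ]
    omega
  · intro x hx
    exact absurd (Finset.mem_univ x) hx
  · intro x _ y _
    obtain ⟨⟨h, k, rfl⟩, hk⟩ := MulAction.exists_smul_eq (Subgroup.zpowers g) x y
    refine ⟨k, ?_⟩
    rw [toPermHom_zpow_apply]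
    exact hk

theorem orderOf_toPermHom [FaithfulSMul G Ω] (g : G) : orderOf (MulAction.toPermHom G Ω g) = orderOf g :=
  orderOf_injective _ MulAction.toPerm_injective g

theorem full_cycle [Fintype Ω] [FaithfulSMul G Ω] {g : G} (hn : 2 ≤ Fintype.card Ω)
    (hg : MulAction.IsPretransitive (Subgroup.zpowers g) Ω) : orderOf g = Fintype.card Ω := by
  classical
  obtain ⟨h1, h2⟩ := full_cycle' hn hg
  rw [← orderOf_toPermHom (Ω := Ω) g, h1.orderOf, h2, Finset.card_univ]

theorem full_cycle_sign [Fintype Ω] [DecidableEq Ω] {g : G} (hn : 2 ≤ Fintype.card Ω)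
    (hg : MulAction.IsPretransitive (Subgroup.zpowers g) Ω) (he : Even (Fintype.card Ω)) :
    Equiv.Perm.sign (MulAction.toPermHom G Ω g) = -1 := by
  obtain ⟨h1, h2⟩ := full_cycle' hn hg
  rw [h1.sign, h2, Finset.card_univ, he.neg_one_pow]

/-- `g` fixes `a` and its powers are transitive on the other points -/
def PtCyc (g : G) (a : Ω) : Prop := g • a = a ∧ ∀ x y : Ω, x ≠ a → y ≠ a → ∃ k : ℤ, g ^ k • x = y

theorem point_cycle' [Fintype Ω] [DecidableEq Ω] {g : G} {a : Ω} (hn : 3 ≤ Fintype.card Ω) (hg : PtCyc g a) :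
    (MulAction.toPermHom G Ω g).IsCycle ∧ (MulAction.toPermHom G Ω g).support = {a}ᶜ := by
  apply isCycle_of
  · rw [Finset.card_compl, Finset.card_singleton]
    omega
  · intro x hx
    rw [Finset.mem_compl, Finset.mem_singleton, not_not] at hx
    subst hx
    exact hg.1
  · intro x hx y hy
    rw [Finset.mem_compl, Finset.mem_singleton] at hx hy
    obtain ⟨k, hk⟩ := hg.2 x y hx hy
    exact ⟨k, by rw [toPermHom_zpow_apply]; exact hk⟩

theorem point_cycle [Fintype Ω] [FaithfulSMul G Ω] {g : G} {a : Ω} (hn : 3 ≤ Fintype.card Ω) (hg : PtCyc g a) :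
    orderOf g = Fintype.card Ω - 1 := by
  classical
  obtain ⟨h1, h2⟩ := point_cycle' hn hg
  rw [← orderOf_toPermHom (Ω := Ω) g, h1.orderOf, h2, Finset.card_compl, Finset.card_singleton]

theorem point_cycle_sign [Fintype Ω] [DecidableEq Ω] {g : G} {a : Ω} (hn : 3 ≤ Fintype.card Ω) (hg : PtCyc g a)
    (he : Odd (Fintype.card Ω)) : Equiv.Perm.sign (MulAction.toPermHom G Ω g) = -1 := by
  obtain ⟨h1, h2⟩ := point_cycle' hn hg
  rw [h1.sign, h2, Finset.card_compl, Finset.card_singleton]
  have : Even (Fintype.card Ω - 1) := Nat.Odd.sub_odd he odd_one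
  rw [this.neg_one_pow]

variable {T : Subgroup G}

theorem full_even (A : AS G Ω T) {g : G} (hg : MulAction.IsPretransitive (Subgroup.zpowers g) Ω)
    (he : Even (Nat.card Ω)) : 2 ∣ T.index := by
  classical
  have := A.finΩ
  have := Fintype.ofFinite Ω
  have h5 := A.five_le
  rw [Nat.card_eq_fintype_card] at he h5
  exact two_dvd_index A (full_cycle_sign (by omega) hg he)

theorem full_order (A : AS G Ω T) {g : G} (hg : MulAction.IsPretransitive (Subgroup.zpowers g) Ω) :
    orderOf g = Nat.card Ω := by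
  classical
  have := A.finΩ
  have := A.faithful
  have := Fintype.ofFinite Ω
  have h5 := A.five_le
  rw [Nat.card_eq_fintype_card] at h5 ⊢
  exact full_cycle (by omega) hg

theorem point_odd (A : AS G Ω T) {g : G} {a : Ω} (hg : PtCyc g a) (he : Odd (Nat.card Ω)) : 2 ∣ T.index := by
  classical
  have := A.finΩ
  have := Fintype.ofFinite Ω
  have h5 := A.five_le
  rw [Nat.card_eq_fintype_card] at he h5
  exact two_dvd_index A (point_cycle_sign (by omega) hg he)

theorem point_order (A : AS G Ω T) {g : G} {a : Ω} (hg : PtCyc g a) : orderOf g = Nat.card Ω - 1 := by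
  classical
  have := A.finΩ
  have := A.faithful
  have := Fintype.ofFinite Ω
  have h5 := A.five_le
  rw [Nat.card_eq_fintype_card] at h5 ⊢
  exact point_cycle (by omega) hg

end

end Cfsg.Agent.H499.TT
end

-- part: H499/TTPsu
section
/-!
# `PSU₃(q)` on `q³ + 1` points has neither a full cycle nor a `q³`-cycle (helper499)
-/

set_option autoImplicit false

namespace Cfsg.Agent.H499.TT

open MulAction Cfsg.Agent.H384.TwoTrans

universe u v w

/-- the order of the automorphism group bounds the index of the socle -/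
theorem index_dvd_aut {G : Type u} {Ω : Type v} [Group G] [MulAction G Ω] {T : Subgroup G} (A : AS G Ω T)
    {S : Type w} [Group S] (e : ↥T ≃* S) {k : ℕ} (h : Nat.card (MulAut S) = k * Nat.card S) : T.index ∣ k := by
  have := A.normal
  have := A.finG
  have hfin : Finite S := Finite.of_equiv _ e.toEquiv
  have h1 : Nat.card G ∣ Nat.card (MulAut S) :=
    Subgroup.card_dvd_of_injective (Cfsg.Agent.H163.PG.toAut T e)
      (Cfsg.Agent.H163.PG.toAut_injective T e A.cent)
  rw [card_eq A e, h, mul_comm k] at h1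
  exact Nat.dvd_of_mul_dvd_mul_left Nat.card_pos h1

/-- the order of a power -/
theorem orderOf_dvd_mul_pow {G : Type u} [Group G] (g : G) (k : ℕ) : orderOf g ∣ k * orderOf (g ^ k) := by
  apply orderOf_dvd_of_pow_eq_one
  rw [pow_mul, pow_orderOf_eq_one]

namespace Psu

theorem two_mul_lt {f : ℕ} : 2 * f < 2 ^ f + 1 := by
  induction f with
  | zero => simp
  | succ f ih =>
    rcases Nat.lt_or_ge f 2 with h | h
    · interval_cases f <;> norm_num
    · have : 2 ≤ 2 ^ f := by
        calc 2 = 2 ^ 1 := rfl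
          _ ≤ 2 ^ f := Nat.pow_le_pow_right (by norm_num) (by omega)
      rw [pow_succ]
      omega

/-- `6 f < q² - q + 1` for `q = p ^ f ≥ 3` -/
theorem six_mul_lt {p f q : ℕ} (hp : p.Prime) (hf : 1 ≤ f) (hq : q = p ^ f) (h3 : 3 ≤ q) :
    3 * (2 * f) < q ^ 2 - q + 1 := by
  have h1 : 2 ^ f ≤ q := by
    rw [hq]
    exact Nat.pow_le_pow_left hp.two_le f
  have h2 := @two_mul_lt f
  have h4 : 2 * f ≤ q := by omega
  rcases Nat.lt_or_ge q 4 with h | h
  · have hq3 : q = 3 := by omega
    have hf1 : f = 1 := by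
      by_contra hcon
      have : 2 ≤ f := by omega
      have : 2 ^ 2 ≤ 2 ^ f := Nat.pow_le_pow_right (by norm_num) this
      omega
    subst hf1
    rw [hq3]
    norm_num
  · have h5 : q ^ 2 - q = q * (q - 1) := by
      rw [Nat.mul_sub_one, pow_two]
    rw [h5]
    have h6 : q * 3 ≤ q * (q - 1) := Nat.mul_le_mul_left q (by omega)
    omega

theorem cube_add_one (q : ℕ) (h : 1 ≤ q) : q ^ 3 + 1 = (q + 1) * (q ^ 2 - q + 1) := by
  obtain ⟨s, rfl⟩ : ∃ s, q = s + 1 := ⟨q - 1, by omega⟩
  have : (s + 1) ^ 2 - (s + 1) = s * s + s := by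
    have : (s + 1) ^ 2 = s * s + s + (s + 1) := by ring
    omega
  rw [this]
  ring

theorem coprime_pred (q : ℕ) (h : 1 ≤ q) : Nat.Coprime (q ^ 2 - q + 1) (q - 1) := by
  obtain ⟨s, rfl⟩ : ∃ s, q = s + 1 := ⟨q - 1, by omega⟩
  have : (s + 1) ^ 2 - (s + 1) = s * (s + 1) := by
    have : (s + 1) ^ 2 = s * (s + 1) + (s + 1) := by ring
    omega
  rw [this, Nat.add_sub_cancel]
  rw [add_comm]
  exact (Nat.coprime_add_mul_left_left 1 s (s + 1)).2 (Nat.coprime_one_left s)

theorem coprime_self (q : ℕ) : Nat.Coprime (q ^ 2 - q + 1) q := by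
  have h5 : q ^ 2 - q = q * (q - 1) := by
    rw [Nat.mul_sub_one, pow_two]
  rw [h5, add_comm]
  exact (Nat.coprime_add_mul_left_left 1 q (q - 1)).2 (Nat.coprime_one_left q)

/-- the list of the element orders of `PSU₃(q)` -/
def Ord (p q o : ℕ) : Prop :=
  o ∣ q + 1 ∨ o ∣ p * ((q + 1) / Nat.gcd 3 (q + 1)) ∨ o ∣ (q ^ 2 - 1) / Nat.gcd 3 (q + 1) ∨
    o ∣ (q ^ 2 - q + 1) / Nat.gcd 3 (q + 1) ∨ (p = 2 ∧ o ∣ 4)

/-- the denominators divide -/
theorem exists_uv (q : ℕ) (h : 1 ≤ q) : ∃ u v : ℕ, 0 < u ∧ q + 1 = Nat.gcd 3 (q + 1) * u ∧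
    (q + 1) / Nat.gcd 3 (q + 1) = u ∧ (q ^ 2 - 1) / Nat.gcd 3 (q + 1) = (q - 1) * u ∧
    q ^ 2 - q + 1 = Nat.gcd 3 (q + 1) * v ∧ (q ^ 2 - q + 1) / Nat.gcd 3 (q + 1) = v := by
  have hd : 0 < Nat.gcd 3 (q + 1) := Nat.gcd_pos_of_pos_left _ (by norm_num)
  obtain ⟨u, hu⟩ : Nat.gcd 3 (q + 1) ∣ q + 1 := Nat.gcd_dvd_right 3 (q + 1)
  have hdv : Nat.gcd 3 (q + 1) ∣ q ^ 2 - q + 1 := by
    have h1 : (q ^ 2 - q + 1) + 3 * q = (q + 1) * (q + 1) := by
      have : q ≤ q ^ 2 := by
        rw [pow_two]
        exact Nat.le_mul_self q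
      zify [this]
      ring
    refine (Nat.dvd_add_left ((Nat.gcd_dvd_left 3 (q + 1)).mul_right q)).1 ?_
    rw [h1]
    exact (Nat.gcd_dvd_right 3 (q + 1)).mul_right _
  obtain ⟨v, hv⟩ := hdv
  refine ⟨u, v, ?_, hu, ?_, ?_, hv, ?_⟩
  · rcases Nat.eq_zero_or_pos u with h0 | h0
    · rw [h0, mul_zero] at hu
      omega
    · exact h0
  · exact Nat.div_eq_of_eq_mul_right hd hu
  · refine Nat.div_eq_of_eq_mul_right hd ?_
    have : q ^ 2 - 1 = (q - 1) * (q + 1) := by
      obtain ⟨s, rfl⟩ : ∃ s, q = s + 1 := ⟨q - 1, by omega⟩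
      have : (s + 1) ^ 2 = s * (s + 1 + 1) + 1 := by ring
      rw [this]
      rfl
    rw [this]
    conv_lhs => rw [hu]
    ring
  · exact Nat.div_eq_of_eq_mul_right hd hv

theorem le_of_dvd' {f k d : ℕ} (hf : 1 ≤ f) (hd : d ∣ 3) (hk : k ∣ d * (2 * f)) : 0 < k ∧ k ≤ 3 * (2 * f) := by
  have hd3 : d ≤ 3 := Nat.le_of_dvd (by norm_num) hd
  have hd0 : 0 < d := Nat.pos_of_dvd_of_pos hd (by norm_num)
  have h1 : 0 < d * (2 * f) := Nat.mul_pos hd0 (by omega)
  refine ⟨Nat.pos_of_dvd_of_pos hk h1, (Nat.le_of_dvd h1 hk).trans (Nat.mul_le_mul_right _ hd3)⟩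

theorem full_arith {p f q k o : ℕ} (hp : p.Prime) (hf : 1 ≤ f) (hq : q = p ^ f) (h3 : 3 ≤ q)
    (hk : k ∣ Nat.gcd 3 (q + 1) * (2 * f)) (ho : Ord p q o) (hd : q ^ 3 + 1 ∣ k * o) (ho' : o ∣ q ^ 3 + 1) :
    False := by
  obtain ⟨hk0, hk6⟩ := le_of_dvd' hf (Nat.gcd_dvd_left 3 (q + 1)) hk
  have h6 := six_mul_lt hp hf hq h3
  have key : ¬ q ^ 2 - q + 1 ∣ k := fun h => by
    have := Nat.le_of_dvd hk0 h
    omega
  have hpq : p ∣ q := by
    rw [hq]
    exact dvd_pow_self p (by omega)
  have hcube := cube_add_one q (by omega)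
  have hcq := coprime_self q
  have hcp : Nat.Coprime (q ^ 2 - q + 1) p := hcq.coprime_dvd_right hpq
  obtain ⟨u, v, hu0, hu, hu', hu'', hv, hv'⟩ := exists_uv q (by omega)
  set d := Nat.gcd 3 (q + 1) with hdd
  have hd0 : 0 < d := Nat.gcd_pos_of_pos_left _ (by norm_num)
  rcases ho with ho | ho | ho | ho | ⟨hp2, ho⟩
  · apply key
    have h1 : (q + 1) * (q ^ 2 - q + 1) ∣ (q + 1) * k := by
      rw [← hcube, mul_comm (q + 1) k]
      exact hd.trans (Nat.mul_dvd_mul_left k ho)
    exact Nat.dvd_of_mul_dvd_mul_left (by omega) h1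
  · apply key
    rw [hu'] at ho
    have h1 : u * (d * (q ^ 2 - q + 1)) ∣ u * (k * p) := by
      have h2 : u * (d * (q ^ 2 - q + 1)) = q ^ 3 + 1 := by
        rw [hcube]
        conv_rhs => rw [hu]
        ring
      have h4 : u * (k * p) = k * (p * u) := by ring
      rw [h2, h4]
      exact hd.trans (Nat.mul_dvd_mul_left k ho)
    have h5 := Nat.dvd_of_mul_dvd_mul_left hu0 h1
    exact hcp.dvd_of_dvd_mul_right ((Dvd.intro_left d rfl).trans h5)
  · apply key
    rw [hu''] at ho
    have h1 : u * (d * (q ^ 2 - q + 1)) ∣ u * (k * (q - 1)) := by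
      have h2 : u * (d * (q ^ 2 - q + 1)) = q ^ 3 + 1 := by
        rw [hcube]
        conv_rhs => rw [hu]
        ring
      have h4 : u * (k * (q - 1)) = k * ((q - 1) * u) := by ring
      rw [h2, h4]
      exact hd.trans (Nat.mul_dvd_mul_left k ho)
    have h5 := Nat.dvd_of_mul_dvd_mul_left hu0 h1
    exact (coprime_pred q (by omega)).dvd_of_dvd_mul_right ((Dvd.intro_left d rfl).trans h5)
  · rw [hv'] at ho
    have hv0 : 0 < v := by
      rcases Nat.eq_zero_or_pos v with h0 | h0
      · rw [h0, mul_zero] at hv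
        omega
      · exact h0
    have h1 : v * ((q + 1) * d) ∣ v * k := by
      have h2 : v * ((q + 1) * d) = q ^ 3 + 1 := by
        rw [hcube, hv]
        ring
      rw [h2, mul_comm v k]
      exact hd.trans (Nat.mul_dvd_mul_left k ho)
    have h5 := (Nat.dvd_of_mul_dvd_mul_left hv0 h1).trans hk
    rw [mul_comm (q + 1) d] at h5
    have h7 := Nat.le_of_dvd (by omega) (Nat.dvd_of_mul_dvd_mul_left hd0 h5)
    have h8 : 2 ^ f ≤ q := by
      rw [hq]
      exact Nat.pow_le_pow_left hp.two_le f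
    have h9 := @two_mul_lt f
    omega
  · apply key
    have h1 : o = 1 := by
      have h2 : Nat.Coprime (2 ^ 2) (q ^ 3 + 1) := by
        apply Nat.Coprime.pow_left
        rw [Nat.coprime_two_left]
        have : Even (q ^ 3) := by
          rw [Nat.even_pow]
          refine ⟨?_, by norm_num⟩
          rw [even_iff_two_dvd, ← hp2]
          exact hpq
        exact this.add_one
      exact Nat.eq_one_of_dvd_coprimes h2 ho ho'
    rw [h1, mul_one] at hd
    exact (Dvd.intro_left (q + 1) hcube.symm).trans hd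

theorem point_arith {p f q k o : ℕ} (hp : p.Prime) (hf : 1 ≤ f) (hq : q = p ^ f) (h3 : 3 ≤ q)
    (hk : k ∣ Nat.gcd 3 (q + 1) * (2 * f)) (ho : Ord p q o) (hd : q ^ 3 ∣ k * o) (ho' : o ∣ q ^ 3) :
    False := by
  have hpq : p ∣ q := by
    rw [hq]
    exact dvd_pow_self p (by omega)
  have hcq := coprime_self q
  obtain ⟨u, v, hu0, hu, hu', hu'', hv, hv'⟩ := exists_uv q (by omega)
  have hc1 : Nat.Coprime (q ^ 3) (q + 1) := by
    apply Nat.Coprime.pow_left
    exact (Nat.coprime_self_add_right).2 (Nat.coprime_one_right q)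
  have hc2 : Nat.Coprime (q ^ 3) (q - 1) := by
    apply Nat.Coprime.pow_left
    obtain ⟨s, rfl⟩ : ∃ s, q = s + 1 := ⟨q - 1, by omega⟩
    rw [Nat.add_sub_cancel]
    exact (Nat.coprime_self_add_left).2 (Nat.coprime_one_left s)
  have hc3 : Nat.Coprime (q ^ 3) (q ^ 2 - q + 1) := hcq.symm.pow_left 3
  set d := Nat.gcd 3 (q + 1) with hdd
  have hcu : Nat.Coprime (q ^ 3) u := hc1.coprime_dvd_right (Dvd.intro_left d hu.symm)
  have hcd : Nat.Coprime (q ^ 3) d := hc1.coprime_dvd_right (Dvd.intro u hu.symm)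
  have h8 : 2 ^ f ≤ q := by
    rw [hq]
    exact Nat.pow_le_pow_left hp.two_le f
  have h9 := @two_mul_lt f
  have hle : p ≤ q := Nat.le_of_dvd (by omega) hpq
  have hone : o ∣ p → False := by
    intro h
    have h1 : q ^ 3 ∣ d * (2 * f * p) := by
      rw [← mul_assoc]
      exact hd.trans (Nat.mul_dvd_mul hk h)
    have h2 := Nat.le_of_dvd (Nat.mul_pos (by omega) hp.pos) (hcd.dvd_of_dvd_mul_left h1)
    have h4 : 2 * f * p ≤ q * q := Nat.mul_le_mul (by omega) hle
    have h5 : q ^ 3 = q * (q * q) := by ring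
    have h6 : 3 * (q * q) ≤ q * (q * q) := Nat.mul_le_mul_right _ h3
    have h7 : 0 < q * q := Nat.mul_pos (by omega) (by omega)
    omega
  rcases ho with ho | ho | ho | ho | ⟨hp2, ho⟩
  · apply hone
    rw [Nat.eq_one_of_dvd_coprimes hc1 ho' ho]
    exact one_dvd p
  · apply hone
    rw [hu'] at ho
    exact ((hcu.coprime_dvd_left ho')).dvd_of_dvd_mul_right ho
  · apply hone
    rw [hu''] at ho
    rw [Nat.eq_one_of_dvd_coprimes (hc2.mul_right hcu) ho' ho]
    exact one_dvd p
  · apply hone
    rw [hv'] at ho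
    rw [Nat.eq_one_of_dvd_coprimes hc3 ho' (ho.trans (Dvd.intro_left d hv.symm))]
    exact one_dvd p
  · have h1 : q ^ 3 ∣ d * (2 * f * 4) := by
      rw [← mul_assoc]
      exact hd.trans (Nat.mul_dvd_mul hk ho)
    have h2 := Nat.le_of_dvd (Nat.mul_pos (by omega) (by norm_num)) (hcd.dvd_of_dvd_mul_left h1)
    have h5 : q ^ 3 = q * (q * q) := by ring
    have h7 : 3 * 3 ≤ q * q := Nat.mul_le_mul h3 h3
    have h6 : q * 9 ≤ q * (q * q) := Nat.mul_le_mul_left q h7
    omega

end Psu

section

variable {G : Type u} {Ω : Type v} [Group G] [MulAction G Ω] {T : Subgroup G}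

theorem psu_data (A : AS G Ω T) {F : Type w} [Field F] [Fintype F] {q : ℕ} (hq : 3 ≤ q)
    (hF : Fintype.card F = q ^ 2) (e : ↥T ≃* Cfsg.PSU 3 F q) : ∃ p f : ℕ, p.Prime ∧ 1 ≤ f ∧ q = p ^ f ∧
      T.index ∣ Nat.gcd 3 (q + 1) * (2 * f) ∧ ∀ g : G, Psu.Ord p q (orderOf (g ^ T.index)) := by
  have hAn := A.normal
  obtain ⟨p, hchar⟩ := CharP.exists F
  obtain ⟨m, hp, hm⟩ := FiniteField.card F p
  have : Fact p.Prime := ⟨hp⟩
  rw [hF] at hm
  obtain ⟨f, -, hf⟩ := (Nat.dvd_prime_pow hp).1 (show q ∣ p ^ (m : ℕ) from hm ▸ dvd_pow_self q (by norm_num))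
  have hf1 : 1 ≤ f := by
    rcases Nat.eq_zero_or_pos f with h | h
    · rw [h, pow_zero] at hf
      omega
    · exact h
  refine ⟨p, f, hp, hf1, hf, ?_, ?_⟩
  · apply index_dvd_aut A e
    exact Cfsg.Agent.S0815.result p f hf1 hf hF 3 le_rfl (by omega)
  · intro g
    have h1 := Cfsg.Agent.H124.SUThreeEig.orderOf_dvd hF p (e ⟨g ^ T.index, T.pow_index_mem g⟩)
    rw [MulEquiv.orderOf_eq, Subgroup.orderOf_mk] at h1
    exact h1

theorem psu_full (A : AS G Ω T) {F : Type w} [Field F] [Fintype F] {q : ℕ} (hq : 3 ≤ q)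
    (hF : Fintype.card F = q ^ 2) (e : ↥T ≃* Cfsg.PSU 3 F q) (hn : Nat.card Ω = q ^ 3 + 1) {g : G}
    (hg : IsPretransitive (Subgroup.zpowers g) Ω) : False := by
  obtain ⟨p, f, hp, hf, hqf, hk, ho⟩ := psu_data A hq hF e
  have h1 := full_order A hg
  rw [hn] at h1
  have h2 := orderOf_dvd_mul_pow g T.index
  have h3 : orderOf (g ^ T.index) ∣ orderOf g := orderOf_pow_dvd T.index
  rw [h1] at h2 h3
  exact Psu.full_arith hp hf hqf hq hk (ho g) h2 h3

theorem psu_point (A : AS G Ω T) {F : Type w} [Field F] [Fintype F] {q : ℕ} (hq : 3 ≤ q)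
    (hF : Fintype.card F = q ^ 2) (e : ↥T ≃* Cfsg.PSU 3 F q) (hn : Nat.card Ω = q ^ 3 + 1) {g : G} {a : Ω}
    (hg : PtCyc g a) : False := by
  obtain ⟨p, f, hp, hf, hqf, hk, ho⟩ := psu_data A hq hF e
  have h1 := point_order A hg
  rw [hn, Nat.add_sub_cancel] at h1
  have h2 := orderOf_dvd_mul_pow g T.index
  have h3 : orderOf (g ^ T.index) ∣ orderOf g := orderOf_pow_dvd T.index
  rw [h1] at h2 h3
  exact Psu.point_arith hp hf hqf hq hk (ho g) h2 h3

end

end Cfsg.Agent.H499.TT
end
end

-- part: H499/TTSmall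
section
set_option linter.all false
open scoped Cfsg.Agent.FastGrp

-- part: H499/TTPrime
section
/-!
# Permutation groups of prime degree, for consumers of the list of 2-transitive groups (helper499)

* `card_le_of_not_two` : degree `p`, transitive, not 2-transitive: order at most `p²`;
* `regular_prime` : a regular normal abelian subgroup in degree `p`: order at most `p (p - 1)` and solvable;
* `three_pretransitive` : Neumann's theorem S0676 for actions.
-/

set_option autoImplicit false

namespace Cfsg.Agent.H499.TT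

open MulAction Cfsg.Agent.H384.TwoTrans

universe u v w

section

variable {G : Type u} {Ω : Type v} [Group G] [MulAction G Ω]

/-- the image of `G` in the symmetric group -/
noncomputable def rangeEquiv [FaithfulSMul G Ω] : G ≃* (MulAction.toPermHom G Ω).range :=
  MonoidHom.ofInjective MulAction.toPerm_injective

theorem pretransitive_range [FaithfulSMul G Ω] (n : ℕ) :
    IsMultiplyPretransitive (MulAction.toPermHom G Ω).range Ω n ↔ IsMultiplyPretransitive G Ω n := by
  constructor
  · intro h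
    refine ⟨fun x y => ?_⟩
    obtain ⟨⟨_, g, rfl⟩, hg⟩ := h.exists_smul_eq x y
    refine ⟨g, ?_⟩
    ext i
    exact congrArg (fun z : Fin n ↪ Ω => z i) hg
  · intro h
    refine ⟨fun x y => ?_⟩
    obtain ⟨g, hg⟩ := h.exists_smul_eq x y
    refine ⟨⟨_, g, rfl⟩, ?_⟩
    ext i
    exact congrArg (fun z : Fin n ↪ Ω => z i) hg

theorem isPretransitive_range [FaithfulSMul G Ω] [h : IsPretransitive G Ω] :
    IsPretransitive (MulAction.toPermHom G Ω).range Ω := by
  refine ⟨fun x y => ?_⟩
  obtain ⟨g, hg⟩ := h.exists_smul_eq x y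
  exact ⟨⟨_, g, rfl⟩, hg⟩

/-- a regular abelian subgroup is self-centralizing -/
theorem centralizer_le_of_regular [FaithfulSMul G Ω] [Nonempty Ω] (N : Subgroup G) (hN : IsMulCommutative N)
    (htr : ∀ x y : Ω, ∃ n ∈ N, n • x = y) : Subgroup.centralizer (N : Set G) = N := by
  apply le_antisymm
  · intro c hc
    rw [Subgroup.mem_centralizer_iff] at hc
    obtain ⟨b⟩ := ‹Nonempty Ω›
    obtain ⟨n, hn, hnb⟩ := htr b (c • b)
    have : n = c := by
      apply FaithfulSMul.eq_of_smul_eq_smul (α := Ω)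
      intro x
      obtain ⟨m, hm, rfl⟩ := htr b x
      have h1 : n * m = m * n := congrArg Subtype.val (hN.is_comm.comm ⟨n, hn⟩ ⟨m, hm⟩)
      calc n • m • b = m • n • b := by rw [← mul_smul, h1, mul_smul]
        _ = m • c • b := by rw [hnb]
        _ = c • m • b := by rw [← mul_smul, hc m hm, mul_smul]
    rwa [← this]
  · intro n hn
    rw [Subgroup.mem_centralizer_iff]
    intro m hm
    exact congrArg Subtype.val (hN.is_comm.comm ⟨m, hm⟩ ⟨n, hn⟩)

theorem regular_prime [Finite G] [FaithfulSMul G Ω] [Finite Ω] (hp : (Nat.card Ω).Prime) (N : Subgroup G) [N.Normal]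
    (hN : IsMulCommutative N) (htr : ∀ x y : Ω, ∃ n ∈ N, n • x = y) (hreg : ∀ x : Ω, ∀ n ∈ N, n • x = x → n = 1) :
    Nat.card G ∣ Nat.card Ω * (Nat.card Ω - 1) ∧ Group.IsSolvable G := by
  have hne : Nonempty Ω := by
    rw [← Finite.card_pos_iff]
    exact hp.pos
  obtain ⟨b⟩ := id hne
  have hcard : Nat.card N = Nat.card Ω := by
    apply Nat.card_congr
    refine Equiv.ofBijective (fun n : N => (n : G) • b) ⟨?_, ?_⟩
    · intro m n hmn
      have h1 : ((n : G)⁻¹ * m) • b = b := by
        rw [mul_smul]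
        have : (m : G) • b = (n : G) • b := hmn
        rw [this, inv_smul_smul]
      have h2 := hreg b _ (N.mul_mem (N.inv_mem n.2) m.2) h1
      exact Subtype.ext (inv_mul_eq_one.1 h2).symm
    · intro x
      obtain ⟨n, hn, h⟩ := htr b x
      exact ⟨⟨n, hn⟩, h⟩
  have : Fact (Nat.card N).Prime := ⟨by rw [hcard]; exact hp⟩
  have hcyc : IsCyclic N := isCyclic_of_prime_card (p := Nat.card N) rfl
  have hker : (MulAut.conjNormal (H := N) : G →* MulAut N).ker = N := by
    refine Eq.trans ?_ (centralizer_le_of_regular N hN htr)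
    ext g
    rw [MonoidHom.mem_ker, Subgroup.mem_centralizer_iff]
    constructor
    · intro h n hn
      have h1 := congrArg (fun f : MulAut N => ((f ⟨n, hn⟩ : N) : G)) h
      have h2 : g * n * g⁻¹ = n := h1
      exact (mul_inv_eq_iff_eq_mul.1 h2).symm
    · intro h
      ext n
      show g * n * g⁻¹ = n
      rw [← h n n.2, mul_inv_cancel_right]
  constructor
  · have h1 : N.index ∣ Nat.card (MulAut N) := by
      conv_lhs => rw [← hker]
      rw [Subgroup.index_ker]
      exact Subgroup.card_subgroup_dvd_card _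
    rw [IsCyclic.card_mulAut, Nat.totient_prime Fact.out, hcard] at h1
    rw [← N.card_mul_index, hcard]
    exact Nat.mul_dvd_mul_left _ h1
  · have hcomm : ∀ f g : MulAut N, f * g = g * f := by
      intro f g
      obtain ⟨z, hz⟩ := hcyc.exists_generator
      obtain ⟨i, hi⟩ := Subgroup.mem_zpowers_iff.1 (hz (f z))
      obtain ⟨j, hj⟩ := Subgroup.mem_zpowers_iff.1 (hz (g z))
      have key : (f * g) z = (g * f) z := by
        rw [MulAut.mul_apply, MulAut.mul_apply, ← hi, ← hj, map_zpow, map_zpow, ← hi, ← hj, ← zpow_mul, ← zpow_mul,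
          mul_comm]
      ext n
      obtain ⟨k, rfl⟩ := Subgroup.mem_zpowers_iff.1 (hz n)
      rw [map_zpow, map_zpow, key]
    have hs1 : Group.IsSolvable (MulAut N) := Group.isSolvable_of_comm hcomm
    have hs2 : Group.IsSolvable N := Group.isSolvable_of_comm fun a b => hN.is_comm.comm a b
    apply Group.isSolvable_of_ker_le_range N.subtype (MulAut.conjNormal (H := N) : G →* MulAut N)
    rw [hker, Subgroup.range_subtype]

/-- Neumann's theorem for actions -/
theorem three_pretransitive [Finite G] [FaithfulSMul G Ω] [Finite Ω] [IsPretransitive G Ω] {p : ℕ} [Fact p.Prime]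
    (hn : Nat.card Ω = p) (hns : ¬ Group.IsSolvable G)
    (heven : ∀ Q : Sylow p G, 2 ∣ Nat.card (Subgroup.normalizer ((Q : Subgroup G) : Set G))) :
    IsMultiplyPretransitive G Ω 3 := by
  classical
  have := Fintype.ofFinite Ω
  have hR := isPretransitive_range (G := G) (Ω := Ω)
  rw [← pretransitive_range 3]
  let e : G ≃* (MulAction.toPermHom G Ω).range := rangeEquiv
  let P : Sylow p (MulAction.toPermHom G Ω).range := default
  have hrange : e.toMonoidHom.range = ⊤ := MonoidHom.range_eq_top.2 e.surjective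
  let Q : Sylow p G := P.comapOfInjective e.toMonoidHom e.injective (by rw [hrange]; exact le_top)
  refine Cfsg.Agent.S0676.result (p := p) (by rw [← Nat.card_eq_fintype_card]; exact hn)
    (MulAction.toPermHom G Ω).range ?_ P ?_
  · intro h
    exact hns (Group.isSolvable_of_isSolvable_injective (f := e.toMonoidHom) e.injective)
  · have h1 : (Q : Subgroup G).map e.toMonoidHom = (P : Subgroup _) := by
      show ((P : Subgroup _).comap e.toMonoidHom).map e.toMonoidHom = _
      exact Subgroup.map_comap_eq_self_of_surjective e.surjective _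
    have h2 := Subgroup.map_equiv_normalizer_eq (Q : Subgroup G) e
    rw [h1] at h2
    rw [← h2, even_iff_two_dvd, Nat.card_congr ((Subgroup.normalizer ((Q : Subgroup G) : Set G)).equivMapOfInjective
      e.toMonoidHom e.injective).symm.toEquiv]
    exact heven Q

theorem desc_dvd_card [Finite G] [Finite Ω] (k : ℕ) (hk : k ≤ Nat.card Ω) (h : IsMultiplyPretransitive G Ω k) :
    (Nat.card Ω).descFactorial k ∣ Nat.card G := by
  classical
  have := Fintype.ofFinite Ω
  have hc : Nat.card (Fin k ↪ Ω) = (Nat.card Ω).descFactorial k := by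
    rw [Nat.card_eq_fintype_card, Fintype.card_embedding_eq, Fintype.card_fin, Nat.card_eq_fintype_card]
  have hne : Nonempty (Fin k ↪ Ω) := by
    rw [← Finite.card_pos_iff, hc]
    exact Nat.descFactorial_pos.2 hk
  obtain ⟨x⟩ := hne
  have h1 := (stabilizer G x).index_mul_card
  have : IsPretransitive G (Fin k ↪ Ω) := h
  rw [MulAction.index_stabilizer_of_transitive, hc] at h1
  exact Dvd.intro _ h1

variable {T : Subgroup G}

theorem not_isSolvable (A : AS G Ω T) : ¬ Group.IsSolvable G := by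
  intro h
  have hs := A.simple
  have h1 : Group.IsSolvable T := inferInstance
  exact A.nonab ⟨⟨IsSimpleGroup.comm_iff_isSolvable.2 h1⟩⟩

/-- an almost simple 2-transitive group of prime degree `p` with even index of the socle is 3-transitive -/
theorem three_of_even_index (A : AS G Ω T) {p : ℕ} (hp : p.Prime) (hn : Nat.card Ω = p) (h2 : 2 ∣ T.index)
    (hp' : ¬ p ∣ T.index) : IsMultiplyPretransitive G Ω 3 := by
  have := A.finG
  have := A.finΩ
  have := A.faithful
  have := A.normal
  have : Fact p.Prime := ⟨hp⟩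
  have : IsPretransitive G Ω := by
    have := A.isPreprimitive
    infer_instance
  apply three_pretransitive hn (not_isSolvable A)
  intro Q
  have hQT : (Q : Subgroup G) ≤ T := by
    intro x hx
    have h1 : QuotientGroup.mk' T x = 1 := by
      have h3 : orderOf (QuotientGroup.mk' T x) ∣ T.index := by
        rw [Subgroup.index_eq_card]
        exact orderOf_dvd_natCard _
      obtain ⟨k, hk⟩ := (IsPGroup.iff_orderOf.1 Q.isPGroup') ⟨x, hx⟩
      rw [Subgroup.orderOf_mk] at hk
      have h4 : orderOf (QuotientGroup.mk' T x) ∣ p ^ k := by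
        rw [← hk]
        exact orderOf_map_dvd _ x
      obtain ⟨j, -, hj⟩ := (Nat.dvd_prime_pow hp).1 h4
      rcases Nat.eq_zero_or_pos j with h0 | h0
      · rw [h0, pow_zero] at hj
        exact orderOf_eq_one_iff.1 hj
      · exfalso
        apply hp'
        rw [hj] at h3
        exact (dvd_pow_self p h0.ne').trans h3
    exact (QuotientGroup.eq_one_iff x).1 h1
  have h3 : Subgroup.normalizer ((Q : Subgroup G) : Set G) ⊔ T = ⊤ := Q.normalizer_sup_eq_top' hQT
  have h4 : T.relIndex (Subgroup.normalizer ((Q : Subgroup G) : Set G)) = T.index := by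
    rw [← Subgroup.relIndex_sup_right, h3, Subgroup.relIndex_top_right]
  have h5 := T.relIndex_dvd_card (Subgroup.normalizer ((Q : Subgroup G) : Set G))
  rw [h4] at h5
  exact h2.trans h5

end

end Cfsg.Agent.H499.TT
end

-- part: H499/TTSmall
section
/-!
# Small rows for the long cycles in 2-transitive groups (helper499)
-/

set_option autoImplicit false

namespace Cfsg.Agent.H499.TT

open MulAction Cfsg.Agent.H384.TwoTrans

universe u v w

/-- the order of the outer automorphism group of `PSL₂(q)` -/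
theorem card_out_psl2 {F : Type w} [Field F] [Fintype F] {p f : ℕ} (hp : p.Prime) (hf : 1 ≤ f)
    (hF : Fintype.card F = p ^ f) (h4 : 4 ≤ p ^ f) :
    Nat.card (Cfsg.Out (Matrix.ProjectiveSpecialLinearGroup (Fin 2) F)) = Nat.gcd 2 (p ^ f - 1) * f := by
  have : Fact p.Prime := ⟨hp⟩
  obtain ⟨φ, hφ, -, hk⟩ := Cfsg.Agent.S2602.result hf hF h4
  have h1 := φ.ker.card_mul_index
  rw [hk, Subgroup.index_ker, MonoidHom.range_eq_top.2 hφ, Subgroup.card_top] at h1
  have : NeZero f := ⟨by omega⟩
  rw [← h1]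
  congr 1
  rw [Nat.card_congr Multiplicative.toAdd, Nat.card_zmod]

theorem card_psl2 {F : Type w} [Field F] [Fintype F] {q : ℕ} (hF : Fintype.card F = q) :
    Nat.card (Matrix.ProjectiveSpecialLinearGroup (Fin 2) F) = q * (q ^ 2 - 1) / Nat.gcd 2 (q - 1) := by
  rw [Cfsg.Agent.ClassicalGeometry.PSL2Basic.card_PSL2_div, hF]

theorem card_psl4_2 {F : Type w} [Field F] [Fintype F] (hF : Fintype.card F = 2) :
    Nat.card (Matrix.ProjectiveSpecialLinearGroup (Fin 4) F) = 20160 := by
  have h := Cfsg.Agent.S0243.result hF 4 (by norm_num)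
  simp only [Fin.prod_univ_four] at h
  norm_num at h
  omega

section

variable {G : Type u} {Ω : Type v} [Group G] [MulAction G Ω] {T : Subgroup G}

theorem alt_row [Fintype Ω] [DecidableEq Ω] (A : AS G Ω T) {S : Type w} [Group S] (e : ↥T ≃* S)
    (h : 2 * Nat.card S = (Nat.card Ω).factorial) : alternatingGroup Ω ≤ (MulAction.toPermHom G Ω).range := by
  apply alt_le_range A
  rw [Nat.card_congr e.toEquiv, h]

theorem card_alt {n : ℕ} (hn : 5 ≤ n) : 2 * Nat.card ↥(alternatingGroup (Fin n)) = n.factorial := by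
  have : Nontrivial (Fin n) := Fin.nontrivial_iff_two_le.2 (by omega)
  rw [nat_card_alternatingGroup, Nat.card_fin]
  have : 2 ∣ n.factorial := Nat.dvd_factorial (by norm_num) (by omega)
  omega

theorem psl2_11_index (A : AS G Ω T) {F : Type w} [Field F] [Fintype F] (hF : Fintype.card F = 11)
    (e : ↥T ≃* Matrix.ProjectiveSpecialLinearGroup (Fin 2) F) (hn : Nat.card Ω = 11) : T.index = 1 := by
  have := A.finG
  have := A.finΩ
  have h1 := index_dvd_out A e
  rw [card_out_psl2 (p := 11) (f := 1) (by norm_num) le_rfl (by rw [hF]; norm_num) (by norm_num)] at h1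
  rcases (Nat.dvd_prime Nat.prime_two).1 h1 with h | h
  · exact h
  exfalso
  have h3 := three_of_even_index A (p := 11) (by norm_num) hn (by rw [h]) (by rw [h]; norm_num)
  have h4 := desc_dvd_card 3 (by omega) h3
  rw [hn, card_eq A e, h, card_psl2 hF] at h4
  revert h4
  decide

/-- `PSL₂(8)` on 28 points has no 27-cycle -/
theorem psl2_8_point (A : AS G Ω T) {F : Type w} [Field F] [Fintype F] (hF : Fintype.card F = 8)
    (e : ↥T ≃* Matrix.ProjectiveSpecialLinearGroup (Fin 2) F) (hn : Nat.card Ω = 28) {g : G} {a : Ω}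
    (hg : PtCyc g a) : False := by
  have := A.finG
  have := A.finΩ
  have := A.normal
  have h1 := index_dvd_out A e
  rw [card_out_psl2 (p := 2) (f := 3) (by norm_num) (by norm_num) (by rw [hF]; norm_num) (by norm_num)] at h1
  have hord := point_order A hg
  rw [hn] at hord
  have hcard := card_eq A e
  rw [card_psl2 hF] at hcard
  norm_num at hcard h1 hord
  have hd : orderOf g ∣ Nat.card G := orderOf_dvd_natCard g
  rw [hord, hcard] at hd
  have hidx : T.index = 3 := by
    rcases (Nat.dvd_prime Nat.prime_three).1 h1 with h | h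
    · rw [h] at hd
      omega
    · exact h
  rw [hidx] at hcard
  have : Fact (Nat.Prime 3) := ⟨Nat.prime_three⟩
  have hT : Nat.card T = 504 := by
    rw [Nat.card_congr e.toEquiv, card_psl2 hF]
    norm_num
  let P : Sylow 3 G := Sylow.ofCard (Subgroup.zpowers g) (by
    rw [Nat.card_zpowers, hord, hcard]
    have h5 : (504 * 3).factorization 3 = 3 := by
      rw [show 504 * 3 = 3 ^ 3 * 56 by norm_num,
        Nat.factorization_mul_apply_of_coprime (by norm_num), Nat.Prime.factorization_pow Nat.prime_three,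
        Finsupp.single_eq_same, Nat.factorization_eq_zero_of_not_dvd (by norm_num)]
    rw [h5]
    norm_num)
  have hP : IsCyclic (P : Subgroup G) := by
    show IsCyclic (Subgroup.zpowers g)
    infer_instance
  obtain ⟨⟨Q, N, hN, hc⟩, -⟩ := Cfsg.Agent.S4145.result 3 P hP T (by rw [hT]; norm_num) (by rw [hidx])
  have hs := A.simple
  have hcQ : Nat.card Q = 9 := by
    rw [Q.card_eq_multiplicity, hT]
    have h5 : (504).factorization 3 = 2 := by
      rw [show 504 = 3 ^ 2 * 56 by norm_num,
        Nat.factorization_mul_apply_of_coprime (by norm_num), Nat.Prime.factorization_pow Nat.prime_three,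
        Finsupp.single_eq_same, Nat.factorization_eq_zero_of_not_dvd (by norm_num)]
    rw [h5]
    norm_num
  have hmul := hc.card_mul_card
  rw [hT] at hmul
  have hQ' : Nat.card (Q : Subgroup T) = 9 := hcQ
  rw [hQ'] at hmul
  rcases hs.eq_bot_or_eq_top_of_normal N hN with h | h
  · rw [h, Subgroup.card_bot] at hmul
    omega
  · rw [h, Subgroup.card_top, hT] at hmul
    omega

/-- an element of a symmetric group whose order is divisible by two primes moves enough points -/
theorem add_le_of_orderOf {n : ℕ} (σ : Equiv.Perm (Fin n)) {r s : ℕ} (hr : r.Prime) (hs : s.Prime) (hrs : r ≠ s)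
    (hr' : r ∣ orderOf σ) (hs' : s ∣ orderOf σ) : r + s ≤ n := by
  rw [← Equiv.Perm.lcm_cycleType] at hr' hs'
  have key : ∀ (t : ℕ), t.Prime → ∀ m : Multiset ℕ, t ∣ m.lcm → ∃ c ∈ m, t ∣ c := by
    intro t ht m
    induction m using Multiset.induction with
    | empty =>
      intro h
      rw [Multiset.lcm_zero] at h
      exact absurd (Nat.dvd_one.1 h) ht.ne_one
    | cons a m ih =>
      intro h
      rw [Multiset.lcm_cons] at h
      have h1 : t ∣ a * m.lcm := h.trans (lcm_dvd (Dvd.intro _ rfl) (Dvd.intro_left _ rfl))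
      rcases ht.dvd_mul.1 h1 with h2 | h2
      · exact ⟨a, Multiset.mem_cons_self a m, h2⟩
      · obtain ⟨c, hc, hc'⟩ := ih h2
        exact ⟨c, Multiset.mem_cons_of_mem hc, hc'⟩
  obtain ⟨c, hc, hrc⟩ := key r hr _ hr'
  obtain ⟨d, hd, hsd⟩ := key s hs _ hs'
  have hc0 : 0 < c := by
    have := Equiv.Perm.two_le_of_mem_cycleType hc
    omega
  have hd0 : 0 < d := by
    have := Equiv.Perm.two_le_of_mem_cycleType hd
    omega
  have hsum : σ.cycleType.sum ≤ n := by
    rw [Equiv.Perm.sum_cycleType]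
    exact (Finset.card_le_univ _).trans (by rw [Fintype.card_fin])
  by_cases hcd : c = d
  · subst hcd
    have h1 : r * s ∣ c := ((Nat.coprime_primes hr hs).2 hrs).mul_dvd_of_dvd_of_dvd hrc hsd
    have h2 := Nat.le_of_dvd hc0 h1
    have h3 : c ≤ σ.cycleType.sum := Multiset.le_sum_of_mem hc
    have h4 := hr.two_le
    have h5 := hs.two_le
    nlinarith
  · have h1 : c + d ≤ σ.cycleType.sum := by
      obtain ⟨m, hm⟩ := Multiset.exists_cons_of_mem hc
      have hd' : d ∈ m := by
        rw [hm, Multiset.mem_cons] at hd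
        rcases hd with hd | hd
        · exact absurd hd.symm hcd
        · exact hd
      rw [hm, Multiset.sum_cons]
      have := Multiset.le_sum_of_mem hd'
      omega
    have h2 := Nat.le_of_dvd hc0 hrc
    have h3 := Nat.le_of_dvd hd0 hsd
    omega

/-- almost simple groups of type `A_n`, `n ≠ 6`, lie in `S_n` -/
theorem alt_orderOf (A : AS G Ω T) {n : ℕ} (hn : 4 ≤ n) (h6 : n ≠ 6) (e : ↥T ≃* ↥(alternatingGroup (Fin n)))
    {g : G} {r s : ℕ} (hr : r.Prime) (hs : s.Prime) (hrs : r ≠ s) (hg : orderOf g = r * s ∨ r * s ∣ orderOf g) :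
    r + s ≤ n := by
  have := A.normal
  let E : Equiv.Perm (Fin n) ≃* MulAut ↥(alternatingGroup (Fin n)) :=
    MulEquiv.ofBijective _ (Cfsg.Agent.S2119.result n hn h6)
  let f : G →* Equiv.Perm (Fin n) := E.symm.toMonoidHom.comp (Cfsg.Agent.H163.PG.toAut T e)
  have hf : Function.Injective f :=
    E.symm.injective.comp (Cfsg.Agent.H163.PG.toAut_injective T e A.cent)
  have hord : orderOf (f g) = orderOf g := orderOf_injective f hf g
  have hd : r * s ∣ orderOf (f g) := by
    rw [hord]
    rcases hg with h | h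
    · rw [h]
    · exact h
  exact add_le_of_orderOf (f g) hr hs hrs ((Dvd.intro s rfl).trans hd) ((Dvd.intro_left r rfl).trans hd)

end

end Cfsg.Agent.H499.TT
end

private theorem dce_5d6c033b4b84 : _root_.True := by
  try have : _root_.True := by simp only [_root_.Matrix.ProjectiveSpecialLinearGroup.congr_simp]
  exact _root_.True.intro
end
end
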