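import Cfsg.Agent.H499.TTSmall
import Cfsg.Agent.S1159
import Cfsg.Agent.S2126
import Cfsg.Agent.S2127
import Cfsg.Agent.S2238
import Cfsg.Agent.S0330
import Cfsg.Agent.OddCyclic.ClaimC.SzIso
import Cfsg.Agent.S2475
import Mathlib
import Cfsg.Agent.H384.TwoCyc
import Cfsg.Agent.H353.TwoLong_m3
import Cfsg.Agent.H410.ASLie
import Cfsg.Agent.S0814
import Cfsg.Agent.S2469
import Cfsg.Agent.LieClassical.SympCenter
import Cfsg.Agent.Lib.Zsigmondy
import Mathlib.Data.ZMod.QuotientGroup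
import Cfsg.Agent.Prune
set_option linter.all false

section
prune_inst 0x7fffe8ffbbfc3fffffff7e7ffff8dffc39911fffe6dff94bffe2ebff3bffb38c0bedfbaf8de090fe1ed6e21418b87853fb7eeeffea6bdc7ffffd5ff45ffbee0ff5f7bd08519698340fbc2fffe3f0778e7f3fffffffffffffffffffffffffffaeffbfffffffff

-- part: H499/TTSz_mg
section
prune_inst 0x17004403c00000000000000520020246c00019000200001d1000840000733000000010046801802104a32001040000000000050400000000a00300000070020802a500412340d04240001803084000000000000000000000000000000051004000000000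
set_option linter.all false
open scoped Cfsg.Agent.FastGrp

-- part: H499/TTSz
section
/-!
# The Suzuki and Ree groups have no full cycle and no `(n - 1)`-cycle (helper499)
-/

set_option autoImplicit false

namespace Cfsg.Agent.H499.TT

open MulAction Cfsg.Agent.H384.TwoTrans

universe u v w

/-- the orders of the elements of the Suzuki group -/
theorem sz_orderOf {F : Type w} [Field F] [Fintype F] {m : ℕ} (hm : 1 ≤ m)
    (hF : Fintype.card F = 2 ^ (2 * m + 1)) (x : ↥(Cfsg.Lie.Sz F (2 ^ (m + 1)))) :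
    orderOf x ∣ 4 ∨ orderOf x ∣ 2 ^ (2 * m + 1) - 1 ∨ orderOf x ∣ 2 ^ (2 * m + 1) + 2 ^ (m + 1) + 1 ∨
      orderOf x ∣ 2 ^ (2 * m + 1) - 2 ^ (m + 1) + 1 := by
  obtain ⟨e⟩ := Cfsg.Agent.OddCyclic.ClaimC.SzIso.iso (F := F) hm hF
  obtain ⟨g, rfl⟩ := e.surjective x
  rw [MulEquiv.orderOf_eq]
  by_cases hg : g = 1
  · left
    rw [hg, orderOf_one]
    exact one_dvd 4
  obtain ⟨U, ⟨hU, hgU⟩, -⟩ := Cfsg.Agent.S2238.result hm hF g hg
  rcases hU with ⟨P, rfl⟩ | ⟨-, hc⟩
  · left
    have h1 := (Cfsg.Agent.S0330.result hm hF P).2.1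
    have h2 : orderOf (⟨g, hgU⟩ : (P : Subgroup (Cfsg.Sz F m))) ∣ Monoid.exponent P := Monoid.order_dvd_exponent _
    rw [Subgroup.orderOf_mk] at h2
    exact h2.trans h1.dvd
  · right
    have h2 : orderOf (⟨g, hgU⟩ : U) ∣ Nat.card U := orderOf_dvd_natCard _
    rw [Subgroup.orderOf_mk] at h2
    rcases hc with hc | hc | hc
    · exact Or.inl (hc ▸ h2)
    · exact Or.inr (Or.inl (hc ▸ h2))
    · exact Or.inr (Or.inr (hc ▸ h2))

section

variable {G : Type u} {Ω : Type v} [Group G] [MulAction G Ω] {T : Subgroup G}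

theorem two_mul_add_one_lt {m : ℕ} (hm : 1 ≤ m) : 2 * m + 1 < 2 ^ (m + 1) := by
  induction m, hm using Nat.le_induction with
  | base => norm_num
  | succ m hm ih =>
    rw [pow_succ]
    omega

theorem sz_full (A : AS G Ω T) {F : Type w} [Field F] [Fintype F] {m : ℕ} (hm : 1 ≤ m)
    (hF : Fintype.card F = 2 ^ (2 * m + 1)) (e : ↥T ≃* ↥(Cfsg.Lie.Sz F (2 ^ (m + 1))))
    (hn : Nat.card Ω = Fintype.card F ^ 2 + 1) {g : G} (hg : IsPretransitive (Subgroup.zpowers g) Ω) : False := by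
  have hAn := A.normal
  have hk : T.index ∣ 2 * m + 1 := by
    have := index_dvd_out A e
    rwa [Cfsg.Agent.S2126.result hm hF] at this
  have ho := sz_orderOf hm hF (e ⟨g ^ T.index, T.pow_index_mem g⟩)
  rw [MulEquiv.orderOf_eq, Subgroup.orderOf_mk] at ho
  have h1 := full_order A hg
  rw [hn, hF] at h1
  have h2 := orderOf_dvd_mul_pow g T.index
  have h3 : orderOf (g ^ T.index) ∣ orderOf g := orderOf_pow_dvd T.index
  rw [h1] at h2 h3
  set q := 2 ^ (2 * m + 1) with hq
  set r := 2 ^ (m + 1) with hr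
  set o := orderOf (g ^ T.index) with hodef
  have hkle : T.index ≤ 2 * m + 1 := Nat.le_of_dvd (by omega) hk
  have hk0 : 0 < T.index := Nat.pos_of_dvd_of_pos hk (by omega)
  have hlt := two_mul_add_one_lt hm
  have hrq : q = r * 2 ^ m := by
    rw [hq, hr, ← pow_add]
    congr 1
    omega
  have hm2 : 2 ≤ 2 ^ m := by
    calc 2 = 2 ^ 1 := rfl
      _ ≤ 2 ^ m := Nat.pow_le_pow_right (by norm_num) hm
  have h2r : 2 * r ≤ q := by
    rw [hrq, mul_comm 2 r]
    exact Nat.mul_le_mul_left r hm2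
  have hr4 : 4 ≤ r := by
    calc 4 = 2 ^ 2 := rfl
      _ ≤ 2 ^ (m + 1) := Nat.pow_le_pow_right (by norm_num) (by omega)
  have hrr : r * r = 2 * q := by
    rw [hr, hq, ← pow_add, ← pow_succ']
    congr 1
    omega
  have hone : o = 1 → False := by
    intro h
    rw [h, mul_one] at h2
    have := Nat.le_of_dvd hk0 h2
    have h5 : q * 1 ≤ q * q := Nat.mul_le_mul_left q (by omega)
    rw [pow_two] at this
    omega
  have hfac : q ^ 2 + 1 = (q + r + 1) * (q - r + 1) := by
    obtain ⟨s, hs⟩ : ∃ s, q = r + s := ⟨q - r, by omega⟩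
    have h5 : q - r = s := by omega
    rw [h5, hs]
    have : r * r = 2 * (r + s) := by rw [hrr, hs]
    linarith only [hrr, hs]
  have hbig : ∀ t : ℕ, o ∣ t → t ≤ q + r + 1 → 0 < t → False := by
    intro t ht hle ht0
    have h5 := Nat.le_of_dvd (Nat.mul_pos hk0 ht0) (h2.trans (Nat.mul_dvd_mul_left _ ht))
    rw [hfac, mul_comm] at h5
    have h6 : T.index * t ≤ (2 * m + 1) * (q + r + 1) := Nat.mul_le_mul hkle hle
    have h7 : (2 * m + 1) * (q + r + 1) < (q - r + 1) * (q + r + 1) :=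
      Nat.mul_lt_mul_of_pos_right (by omega) (by omega)
    omega
  have hodd : Nat.Coprime 2 (q ^ 2 + 1) := by
    rw [Nat.coprime_two_left]
    have : Even (q ^ 2) := by
      rw [Nat.even_pow]
      refine ⟨?_, by norm_num⟩
      rw [hq, Nat.even_pow]
      exact ⟨even_two, by omega⟩
    exact this.add_one
  rcases ho with ho | ho | ho | ho
  · apply hone
    have h5 : Nat.Coprime (2 ^ 2) (q ^ 2 + 1) := hodd.pow_left 2
    exact Nat.eq_one_of_dvd_coprimes h5 ho h3
  · exact hbig _ ho (by omega) (by omega)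
  · exact hbig _ ho le_rfl (by omega)
  · exact hbig _ ho (by omega) (by omega)

theorem sz_point (A : AS G Ω T) {F : Type w} [Field F] [Fintype F] {m : ℕ} (hm : 1 ≤ m)
    (hF : Fintype.card F = 2 ^ (2 * m + 1)) (e : ↥T ≃* ↥(Cfsg.Lie.Sz F (2 ^ (m + 1))))
    (hn : Nat.card Ω = Fintype.card F ^ 2 + 1) {g : G} {a : Ω} (hg : PtCyc g a) : False := by
  have hAn := A.normal
  have h1 := point_order A hg
  rw [hn, hF, Nat.add_sub_cancel] at h1
  have hmem : g ∈ T := by
    apply mem_of_coprime A e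
    rw [Cfsg.Agent.S2126.result hm hF, h1]
    apply Nat.Coprime.pow_left
    apply Nat.Coprime.pow_left
    rw [Nat.coprime_two_left]
    exact ⟨m, rfl⟩
  have ho := sz_orderOf hm hF (e ⟨g, hmem⟩)
  rw [MulEquiv.orderOf_eq, Subgroup.orderOf_mk, h1] at ho
  have hm3 : 8 ≤ 2 ^ (2 * m + 1) := by
    calc 8 = 2 ^ 3 := rfl
      _ ≤ 2 ^ (2 * m + 1) := Nat.pow_le_pow_right (by norm_num) (by omega)
  have h2 : 2 ∣ 2 ^ (2 * m + 1) := dvd_pow_self 2 (by omega)
  have h3 : 2 ∣ 2 ^ (m + 1) := dvd_pow_self 2 (by omega)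
  have h4 : 2 ∣ (2 ^ (2 * m + 1)) ^ 2 := dvd_pow h2 (by norm_num)
  have h5 : 2 ^ (m + 1) ≤ 2 ^ (2 * m + 1) := Nat.pow_le_pow_right (by norm_num) (by omega)
  have h6 : 2 ^ (2 * m + 1) * 1 ≤ 2 ^ (2 * m + 1) * 2 ^ (2 * m + 1) := Nat.mul_le_mul_left _ (by omega)
  rcases ho with ho | ho | ho | ho
  · have := Nat.le_of_dvd (by norm_num) ho
    rw [pow_two] at this
    omega
  · have := h4.trans ho
    omega
  · have := h4.trans ho
    omega
  · have := h4.trans ho
    (clear * - this; omega)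

theorem ree_out_dvd (A : AS G Ω T) {K : Type w} [Field K] [Fintype K] {m : ℕ} (hm : 1 ≤ m)
    (hK : Fintype.card K = 3 ^ (2 * m + 1)) (e : ↥T ≃* ↥(Cfsg.Lie.twistedG2 K (3 ^ m))) : T.index ∣ 2 * m + 1 := by
  have := index_dvd_out A e
  rwa [Cfsg.Agent.S2127.result hm hK] at this

theorem ree_full (A : AS G Ω T) {K : Type w} [Field K] [Fintype K] {m : ℕ} (hm : 1 ≤ m)
    (hK : Fintype.card K = 3 ^ (2 * m + 1)) (e : ↥T ≃* ↥(Cfsg.Lie.twistedG2 K (3 ^ m)))
    (hn : Nat.card Ω = Fintype.card K ^ 3 + 1) {g : G} (hg : IsPretransitive (Subgroup.zpowers g) Ω) : False := by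
  have h1 := ree_out_dvd A hm hK e
  have h2 := full_even A hg (by
    rw [hn, hK]
    have h3 : Odd ((3 ^ (2 * m + 1)) ^ 3) := Odd.pow (Odd.pow (by decide))
    exact h3.add_one)
  have := h2.trans h1
  omega

theorem ree_point (A : AS G Ω T) {K : Type w} [Field K] [Fintype K] {m : ℕ} (hm : 1 ≤ m)
    (hK : Fintype.card K = 3 ^ (2 * m + 1)) (e : ↥T ≃* ↥(Cfsg.Lie.twistedG2 K (3 ^ m)))
    (hn : Nat.card Ω = Fintype.card K ^ 3 + 1) {g : G} {a : Ω} (hg : PtCyc g a) : False := by
  have hAn := A.normal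
  have hk := ree_out_dvd A hm hK e
  have h1 := point_order A hg
  rw [hn, hK, Nat.add_sub_cancel] at h1
  have ho := (Cfsg.Agent.S1159.result hm hK (orderOf (g ^ T.index))).1 ⟨e ⟨g ^ T.index, T.pow_index_mem g⟩, by
    rw [MulEquiv.orderOf_eq, Subgroup.orderOf_mk]⟩
  have h2 := orderOf_dvd_mul_pow g T.index
  have h3 : orderOf (g ^ T.index) ∣ orderOf g := orderOf_pow_dvd T.index
  rw [h1] at h2 h3
  set q := 3 ^ (2 * m + 1) with hq
  set o := orderOf (g ^ T.index) with hodef
  have hkle : T.index ≤ 2 * m + 1 := Nat.le_of_dvd (by omega) hk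
  have hk0 : 0 < T.index := Nat.pos_of_dvd_of_pos hk (by omega)
  have h27 : 27 ≤ q := by
    calc 27 = 3 ^ 3 := rfl
      _ ≤ 3 ^ (2 * m + 1) := Nat.pow_le_pow_right (by norm_num) (by omega)
  have hlt : 2 * m + 1 < q := Nat.lt_pow_self (by norm_num)
  -- `o` is a power of three
  have hpw : ∃ j : ℕ, o = 3 ^ j := by
    have h5 : o ∣ 3 ^ ((2 * m + 1) * 3) := by
      rw [pow_mul]
      exact h3
    obtain ⟨j, -, hj⟩ := (Nat.dvd_prime_pow Nat.prime_three).1 h5
    exact ⟨j, hj⟩
  obtain ⟨j, hj⟩ := hpw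
  have hcop : ∀ t : ℕ, o ∣ t → ¬ 3 ∣ t → o ∣ 9 := by
    intro t ht h
    have : j = 0 := by
      by_contra hcon
      apply h
      rw [hj] at ht
      exact (dvd_pow_self 3 hcon).trans ht
    rw [hj, this, pow_zero]
    exact one_dvd 9
  have h3q : 3 ∣ q := dvd_pow_self 3 (by omega)
  have h3r : 3 ∣ 3 ^ (m + 1) := dvd_pow_self 3 (by omega)
  have hrq : 3 ^ (m + 1) ≤ q := Nat.pow_le_pow_right (by norm_num) (by omega)
  have h9 : o ∣ 9 := by
    rcases ho with ho | ho | ho | ho | ho | ho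
    · rw [hj] at ho ⊢
      have h5 : 3 ^ j ∣ 3 * 2 := ho
      have h6 : Nat.Coprime (3 ^ j) 2 := by
        apply Nat.Coprime.pow_left
        norm_num
      exact (h6.dvd_of_dvd_mul_right h5).trans (by norm_num)
    · exact ho
    · exact hcop _ ho (by omega)
    · apply hcop _ ho
      intro h
      have h5 : 3 ∣ 2 * ((q + 1) / 2) := h.mul_left 2
      have h6 : 2 * ((q + 1) / 2) = q + 1 := by
        apply Nat.mul_div_cancel'
        have : Odd q := Odd.pow (by decide)
        exact even_iff_two_dvd.1 this.add_one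
      rw [h6] at h5
      (clear * - h5; omega)
    · exact hcop _ ho (by (clear * -; omega))
    · exact hcop _ ho (by (clear * -; omega))
  have h5 := Nat.le_of_dvd (Nat.mul_pos hk0 (by norm_num)) (h2.trans (Nat.mul_dvd_mul_left _ h9))
  have h6 : T.index * 9 ≤ (2 * m + 1) * 9 := Nat.mul_le_mul_right 9 hkle
  have h7 : q ^ 3 = q * (q * q) := by ring
  have h8 : q * 27 ≤ q * (q * q) := Nat.mul_le_mul_left q (by nlinarith only [h27])
  (clear * - hkle hlt h5 h7 h8; omega)

end

end Cfsg.Agent.H499.TT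
end

-- part: H499/TTPsl2
section
/-!
# An element fixing one point and permuting the others in one cycle: the row `PSL₂(q)` (helper499)
-/

set_option autoImplicit false

namespace Cfsg.Agent.H499.TT

open MulAction Cfsg.Agent.H384.TwoTrans

universe u v w

/-- elements of `PSL₂(p^f)` of order a power of `p` have order dividing `p` -/
theorem psl2_ppow {F : Type w} [Field F] [Fintype F] {p f : ℕ} (hp : p.Prime) (hf : 1 ≤ f)
    (hF : Fintype.card F = p ^ f) (h4 : 4 ≤ p ^ f) (x : Matrix.ProjectiveSpecialLinearGroup (Fin 2) F)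
    (hx : ∃ k, orderOf x ∣ p ^ k) : orderOf x ∣ p := by
  have : Fact p.Prime := ⟨hp⟩
  have hchar : CharP F p := by
    obtain ⟨r, hr⟩ := CharP.exists F
    obtain ⟨⟨f', hf'⟩, hr', hcard⟩ := FiniteField.card F r
    have h1 : r ∣ p ^ f := by
      rw [← hF, hcard]
      exact dvd_pow_self r (by simpa using hf'.ne')
    have h2 : r = p := (Nat.prime_dvd_prime_iff_eq hr' hp).1 (hr'.dvd_of_dvd_pow h1)
    rwa [h2] at hr
  have h1 : orderOf x ∈ Set.range (orderOf : Matrix.ProjectiveSpecialLinearGroup (Fin 2) F → ℕ) := ⟨x, rfl⟩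
  rw [Cfsg.Agent.S2475.result p (by rw [hF]; exact h4), hF] at h1
  obtain ⟨k, hk⟩ := hx
  have hpos : 1 ≤ p ^ f := by omega
  have hpd : p ∣ p ^ f := dvd_pow_self p (by omega)
  have key : ∀ m : ℕ, p.Coprime m → orderOf x ∣ m → orderOf x ∣ p := by
    intro m hm hxm
    have h2 : orderOf x ∣ 1 := by
      have h3 := Nat.dvd_gcd hk hxm
      rwa [(Nat.Coprime.pow_left k hm).gcd_eq_one] at h3
    exact h2.trans (one_dvd p)
  rcases h1 with h1 | h1 | h1
  · exact h1
  · apply key _ _ (h1.trans (Nat.div_dvd_of_dvd (Nat.gcd_dvd_right _ _)))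
    rw [hp.coprime_iff_not_dvd]
    intro h2
    have h3 := (Nat.dvd_sub_iff_right hpos hpd).1 h2
    exact hp.one_lt.ne' (Nat.dvd_one.1 h3)
  · have hg : Nat.gcd 2 (p ^ f - 1) ∣ p ^ f + 1 := by
      have h5 : Nat.gcd 2 (p ^ f - 1) ∣ (p ^ f - 1) + 2 :=
        dvd_add (Nat.gcd_dvd_right _ _) (Nat.gcd_dvd_left _ _)
      rwa [show p ^ f - 1 + 2 = p ^ f + 1 by omega] at h5
    apply key _ _ (h1.trans (Nat.div_dvd_of_dvd hg))
    rw [hp.coprime_iff_not_dvd]
    intro h2
    have h3 := (Nat.dvd_add_right hpd).1 h2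
    exact hp.one_lt.ne' (Nat.dvd_one.1 h3)

theorem lt_pow_sub {p f : ℕ} (hp : 2 ≤ p) (hf : 1 ≤ f) : f ≤ p ^ (f - 1) := by
  obtain ⟨k, rfl⟩ : ∃ k, f = k + 1 := ⟨f - 1, by omega⟩
  rw [Nat.add_sub_cancel]
  calc k + 1 ≤ 2 ^ k := Nat.lt_two_pow_self
    _ ≤ p ^ k := Nat.pow_le_pow_left hp k

section

variable {G : Type u} {Ω : Type v} [Group G] [MulAction G Ω] {T : Subgroup G}

/-- the row `PSL₂(q)` on `q + 1` points: `q` is prime or 4 -/
theorem psl2_point (A : AS G Ω T) {F : Type w} [Field F] [Fintype F] (h4 : 4 ≤ Fintype.card F)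
    (e : ↥T ≃* Matrix.ProjectiveSpecialLinearGroup (Fin 2) F) (hn : Nat.card Ω = Fintype.card F + 1)
    {g : G} {a : Ω} (hg : PtCyc g a) : (Fintype.card F).Prime ∨ Fintype.card F = 4 := by
  have hfin := A.finG
  obtain ⟨p, hchar⟩ := CharP.exists F
  obtain ⟨⟨f, hf0⟩, hp, hF⟩ := FiniteField.card F p
  simp only [PNat.mk_coe] at hF
  have hf : 1 ≤ f := hf0
  have h4' : 4 ≤ p ^ f := by rw [← hF]; exact h4
  have hord := point_order A hg
  rw [hn, Nat.add_sub_cancel, hF] at hord
  have hi := index_dvd_out A e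
  rw [card_out_psl2 hp hf hF h4'] at hi
  have hgT : g ^ T.index ∈ T := pow_mem A (dvd_refl _) g
  have hoT : orderOf (g ^ T.index) = orderOf (e ⟨g ^ T.index, hgT⟩) := by
    rw [MulEquiv.orderOf_eq, Subgroup.orderOf_mk]
  have h5 : orderOf (g ^ T.index) ∣ p := by
    rw [hoT]
    apply psl2_ppow hp hf hF h4'
    rw [← hoT]
    exact ⟨f, by rw [← hord]; exact orderOf_pow_dvd _⟩
  have h6 : p ^ f ∣ Nat.gcd 2 (p ^ f - 1) * f * p := by
    have h7 := orderOf_dvd_mul_pow g T.index
    rw [hord] at h7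
    exact h7.trans (Nat.mul_dvd_mul hi h5)
  have h7 : p ^ (f - 1) ∣ f := by
    have hcop : Nat.Coprime (p ^ f) (Nat.gcd 2 (p ^ f - 1)) := by
      apply Nat.Coprime.coprime_dvd_right (Nat.gcd_dvd_right _ _)
      rw [Nat.coprime_self_sub_right (by omega)]
      exact Nat.coprime_one_right _
    rw [mul_assoc] at h6
    have h8 := hcop.dvd_of_dvd_mul_left h6
    have h9 : p ^ f = p ^ (f - 1) * p := by
      rw [← pow_succ]
      congr 1
      omega
    rw [h9] at h8
    exact Nat.dvd_of_mul_dvd_mul_right hp.pos h8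
  have h8 : f = p ^ (f - 1) := le_antisymm (lt_pow_sub hp.two_le hf) (Nat.le_of_dvd (by omega) h7)
  rcases Nat.lt_or_ge f 2 with h9 | h9
  · left
    have : f = 1 := by omega
    rw [hF, this, pow_one]
    exact hp
  · right
    have hp2 : p = 2 := by
      by_contra hcon
      have h3 : 3 ≤ p := by
        have := hp.two_le
        omega
      obtain ⟨k, rfl⟩ : ∃ k, f = k + 2 := ⟨f - 2, by omega⟩
      rw [show k + 2 - 1 = k + 1 by omega] at h8
      have h10 : k + 1 ≤ 3 ^ k := (Nat.lt_pow_self (by norm_num))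
      have h11 : 3 ^ (k + 1) ≤ p ^ (k + 1) := Nat.pow_le_pow_left h3 _
      rw [pow_succ] at h11
      omega
    subst hp2
    have h10 : f = 2 := by
      by_contra hcon
      obtain ⟨k, rfl⟩ : ∃ k, f = k + 3 := ⟨f - 3, by omega⟩
      rw [show k + 3 - 1 = k + 2 by omega] at h8
      have h11 : k + 1 ≤ 2 ^ k := Nat.lt_two_pow_self
      rw [pow_add] at h8
      omega
    rw [hF, h10]
    norm_num

end

end Cfsg.Agent.H499.TT
end
end

-- part: H384/TwoCycPSL
section
prune_inst 0x2000000c00000000180000000000402000000000400000000004000000004000010001000004101000800000000008110000100000000000000000000000000000120480480100200000000000000000000000000000000000000000000000000000000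
set_option linter.all false
open scoped Cfsg.Agent.FastGrp

-- part: H384/ProjLines
section
/-!
# Lines of the projective space: transitivity of `SL` on triangles, intersections
-/

set_option autoImplicit false

namespace Cfsg.Agent.H384.ProjLines

open Module
open scoped LinearAlgebra.Projectivization

section Geo

variable {F V : Type*} [Field F] [AddCommGroup V] [Module F V]

theorem le_of_eq_sub {a b : ℙ F V} (h : a.submodule ≤ b.submodule) : a = b := by
  apply Projectivization.submodule_injective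
  have : FiniteDimensional F b.submodule := Module.finite_of_finrank_pos (by
    rw [Projectivization.finrank_submodule]; exact one_pos)
  apply Submodule.eq_of_le_of_finrank_eq h
  rw [Projectivization.finrank_submodule, Projectivization.finrank_submodule]

variable [FiniteDimensional F V]

theorem inf_eq_bot {a : ℙ F V} {W : Submodule F V} (h : ¬ a.submodule ≤ W) : a.submodule ⊓ W = ⊥ := by
  by_contra hne
  have h1 : 0 < finrank F (a.submodule ⊓ W : Submodule F V) := by
    rw [Nat.pos_iff_ne_zero, Ne, Submodule.finrank_eq_zero]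
    exact hne
  have h2 : a.submodule ⊓ W = a.submodule := by
    apply Submodule.eq_of_le_of_finrank_le inf_le_left
    rw [Projectivization.finrank_submodule]
    exact h1
  exact h (by rw [← h2]; exact inf_le_right)

theorem finrank_sup {a : ℙ F V} {W : Submodule F V} (h : ¬ a.submodule ≤ W) :
    finrank F (a.submodule ⊔ W : Submodule F V) = finrank F W + 1 := by
  have h1 := Submodule.finrank_sup_add_finrank_inf_eq a.submodule W
  rw [inf_eq_bot h, finrank_bot, Projectivization.finrank_submodule] at h1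
  omega

theorem finrank_line {a b : ℙ F V} (h : a ≠ b) : finrank F (a.submodule ⊔ b.submodule : Submodule F V) = 2 := by
  rw [finrank_sup (fun hc => h (le_of_eq_sub hc)), Projectivization.finrank_submodule]

/-- two distinct points on a line span it -/
theorem line_eq {a b c d : ℙ F V} (hab : a ≠ b) (hcd : c ≠ d) (hc : c.submodule ≤ a.submodule ⊔ b.submodule)
    (hd : d.submodule ≤ a.submodule ⊔ b.submodule) :
    c.submodule ⊔ d.submodule = a.submodule ⊔ b.submodule := by
  apply Submodule.eq_of_le_of_finrank_eq (sup_le hc hd)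
  rw [finrank_line hab, finrank_line hcd]

/-- exchange -/
theorem exchange {a b c : ℙ F V} (hac : a ≠ c) (h : a.submodule ≤ c.submodule ⊔ b.submodule) :
    b.submodule ≤ c.submodule ⊔ a.submodule := by
  by_cases hcb : c = b
  · rw [hcb]; exact le_sup_left
  · rw [line_eq hcb hac.symm le_sup_left h]
    exact le_sup_right

/-- two lines `ab`, `a'b'` with `a' ∈ wa`, `b' ∈ wb` meet -/
theorem meet {w a b a' b' : ℙ F V} (hab : a ≠ b) (hab' : a' ≠ b')
    (ha : a'.submodule ≤ w.submodule ⊔ a.submodule) (hb : b'.submodule ≤ w.submodule ⊔ b.submodule) :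
    ∃ d : ℙ F V, d.submodule ≤ a.submodule ⊔ b.submodule ∧ d.submodule ≤ a'.submodule ⊔ b'.submodule := by
  have h1 := Submodule.finrank_sup_add_finrank_inf_eq (a.submodule ⊔ b.submodule) (a'.submodule ⊔ b'.submodule)
  rw [finrank_line hab, finrank_line hab'] at h1
  have h2 : (a.submodule ⊔ b.submodule) ⊔ (a'.submodule ⊔ b'.submodule) ≤
      w.submodule ⊔ (a.submodule ⊔ b.submodule) := by
    refine sup_le le_sup_right (sup_le ?_ ?_)
    · exact ha.trans (sup_le_sup_left le_sup_left _)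
    · exact hb.trans (sup_le_sup_left le_sup_right _)
  have h3 := Submodule.finrank_mono h2
  have h4 : finrank F (w.submodule ⊔ (a.submodule ⊔ b.submodule) : Submodule F V) ≤ 3 := by
    have := Submodule.finrank_sup_add_finrank_inf_eq w.submodule (a.submodule ⊔ b.submodule)
    rw [finrank_line hab, Projectivization.finrank_submodule] at this
    omega
  have h5 : (a.submodule ⊔ b.submodule) ⊓ (a'.submodule ⊔ b'.submodule) ≠ ⊥ := by
    intro h
    rw [h, finrank_bot] at h1
    omega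
  obtain ⟨v, hv, hv0⟩ := (Submodule.ne_bot_iff _).1 h5
  refine ⟨Projectivization.mk F v hv0, ?_, ?_⟩
  · rw [Projectivization.submodule_mk, Submodule.span_singleton_le_iff_mem]
    exact hv.1
  · rw [Projectivization.submodule_mk, Submodule.span_singleton_le_iff_mem]
    exact hv.2

theorem ncard_line [Finite F] {a b : ℙ F V} (h : a ≠ b) :
    {c : ℙ F V | c.submodule ≤ a.submodule ⊔ b.submodule}.ncard = Nat.card F + 1 := by
  set W : Submodule F V := a.submodule ⊔ b.submodule with hW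
  rw [← Projectivization.card_of_finrank_two F W (finrank_line h)]
  have hinj : Function.Injective (Projectivization.map W.subtype W.injective_subtype) :=
    Projectivization.map_injective W.subtype W.injective_subtype
  have hr : {c : ℙ F V | c.submodule ≤ W} = Set.range (Projectivization.map W.subtype W.injective_subtype) := by
    ext c
    constructor
    · intro h1
      rw [Set.mem_ofPred_eq, Projectivization.submodule_eq, Submodule.span_singleton_le_iff_mem] at h1
      refine ⟨Projectivization.mk F (⟨c.rep, h1⟩ : W) (fun h0 => c.rep_nonzero (congrArg Subtype.val h0)), ?_⟩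
      rw [Projectivization.map_mk]
      conv_rhs => rw [← c.mk_rep]
      rfl
    · rintro ⟨d, rfl⟩
      induction d with | h v hv =>
      rw [Projectivization.map_mk, Set.mem_ofPred_eq, Projectivization.submodule_mk,
        Submodule.span_singleton_le_iff_mem]
      exact v.2
  rw [hr, ← Nat.card_coe_set_eq]
  exact Nat.card_congr (Equiv.ofInjective _ hinj).symm

end Geo

section SL

variable {ι F : Type*} [Field F] [DecidableEq ι] [Fintype ι]

theorem smul_eq (s : Matrix.SpecialLinearGroup ι F) (a : ℙ F (ι → F)) :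
    s • a = Projectivization.mk F (s.1.mulVec a.rep) ((smul_ne_zero_iff_ne s).mpr a.rep_nonzero) := by
  conv_lhs => rw [← a.mk_rep]
  rfl

theorem submodule_smul (s : Matrix.SpecialLinearGroup ι F) (a : ℙ F (ι → F)) :
    (s • a).submodule = a.submodule.map s.1.mulVecLin := by
  rw [smul_eq, Projectivization.submodule_mk, Projectivization.submodule_eq, Submodule.map_span,
    Set.image_singleton]
  rfl

theorem mulVecLin_inj (s : Matrix.SpecialLinearGroup ι F) : Function.Injective s.1.mulVecLin := by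
  intro x y hxy
  have h1 : s • x = s • y := hxy
  exact (smul_left_cancel_iff s).1 h1

theorem smul_le_iff (s : Matrix.SpecialLinearGroup ι F) (a b c : ℙ F (ι → F)) :
    (s • c).submodule ≤ (s • a).submodule ⊔ (s • b).submodule ↔ c.submodule ≤ a.submodule ⊔ b.submodule := by
  rw [submodule_smul, submodule_smul, submodule_smul, ← Submodule.map_sup,
    Submodule.map_le_map_iff_of_injective (mulVecLin_inj s)]

/-- transitivity of the stabiliser of two points on the points off the line -/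
theorem exists_sl {a b c c' : ℙ F (ι → F)} (h : ¬ c.submodule ≤ a.submodule ⊔ b.submodule)
    (h' : ¬ c'.submodule ≤ a.submodule ⊔ b.submodule) :
    ∃ s : Matrix.SpecialLinearGroup ι F, s • a = a ∧ s • b = b ∧ s • c = c' := by
  set W : Submodule F (ι → F) := a.submodule ⊔ b.submodule with hW
  set x := c.rep with hx
  have hxW : x ∉ W := by
    rw [Projectivization.submodule_eq, Submodule.span_singleton_le_iff_mem] at h
    exact h
  have hyW : c'.rep ∉ W := by
    rw [Projectivization.submodule_eq, Submodule.span_singleton_le_iff_mem] at h'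
    exact h'
  -- the functional
  have key : ∃ (y : ι → F) (t : F) (f : Module.Dual F (ι → F)), t ≠ 0 ∧ y = t • c'.rep ∧ W ≤ LinearMap.ker f ∧ f x = 1 ∧ f y = 1 := by
    by_cases hcase : x ∈ W ⊔ Submodule.span F {c'.rep - x}
    · obtain ⟨w, hw, z, hz, hwz⟩ := Submodule.mem_sup.1 hcase
      obtain ⟨t, rfl⟩ := Submodule.mem_span_singleton.1 hz
      have ht : t ≠ 0 := by
        rintro rfl
        rw [zero_smul, add_zero] at hwz
        exact hxW (hwz ▸ hw)
      have h1 : (1 + t) • x = w + t • c'.rep := by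
        rw [add_smul, one_smul, ← sub_eq_zero]
        nth_rw 1 [← hwz]
        rw [smul_sub]
        abel
      have ht1 : 1 + t ≠ 0 := by
        intro h0
        rw [h0, zero_smul] at h1
        apply hyW
        have h2 : c'.rep = (-t⁻¹) • w := by
          have h3 : t • c'.rep = -w := by
            rw [eq_neg_iff_add_eq_zero, add_comm]; exact h1.symm
          rw [neg_smul, ← smul_neg, ← h3, smul_smul, inv_mul_cancel₀ ht, one_smul]
        rw [h2]
        exact W.smul_mem _ hw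
      obtain ⟨f, hf, hfW⟩ := Submodule.exists_le_ker_of_notMem hxW
      refine ⟨(t * (1 + t)⁻¹) • c'.rep, t * (1 + t)⁻¹, (f x)⁻¹ • f, mul_ne_zero ht (inv_ne_zero ht1), rfl, ?_, ?_, ?_⟩
      · intro u hu
        rw [LinearMap.mem_ker, LinearMap.smul_apply, LinearMap.mem_ker.1 (hfW hu), smul_zero]
      · rw [LinearMap.smul_apply, smul_eq_mul, inv_mul_cancel₀ hf]
      · have h2 := congrArg f h1
        rw [map_add, map_smul, map_smul, LinearMap.mem_ker.1 (hfW hw), zero_add, smul_eq_mul, smul_eq_mul] at h2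
        rw [LinearMap.smul_apply, map_smul, smul_eq_mul, smul_eq_mul]
        have h3 : f c'.rep * t = (1 + t) * f x := by rw [h2, mul_comm]
        have h4 : (f x)⁻¹ * (t * (1 + t)⁻¹ * f c'.rep) = (f x)⁻¹ * ((1 + t)⁻¹ * (f c'.rep * t)) := by ring
        rw [h4, h3, inv_mul_cancel_left₀ ht1, inv_mul_cancel₀ hf]
    · obtain ⟨f, hf, hfW⟩ := Submodule.exists_le_ker_of_notMem hcase
      refine ⟨c'.rep, 1, (f x)⁻¹ • f, one_ne_zero, (one_smul _ _).symm, ?_, ?_, ?_⟩
      · intro u hu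
        rw [LinearMap.mem_ker, LinearMap.smul_apply,
          LinearMap.mem_ker.1 (hfW (Submodule.mem_sup_left hu)), smul_zero]
      · rw [LinearMap.smul_apply, smul_eq_mul, inv_mul_cancel₀ hf]
      · have h1 : c'.rep - x ∈ LinearMap.ker f :=
          hfW (Submodule.mem_sup_right (Submodule.mem_span_singleton_self _))
        rw [LinearMap.mem_ker, map_sub, sub_eq_zero] at h1
        rw [LinearMap.smul_apply, h1, smul_eq_mul, inv_mul_cancel₀ hf]
  obtain ⟨y, t, f, ht, hy, hfW, hfx, hfy⟩ := key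
  let τ : (ι → F) →ₗ[F] (ι → F) := LinearMap.transvection f (y - x)
  have hτ : ∀ v, τ v = v + f v • (y - x) := fun v => LinearMap.transvection.apply f (y - x) v
  let s : Matrix.SpecialLinearGroup ι F := ⟨LinearMap.toMatrix' τ, by
    rw [LinearMap.det_toMatrix', LinearMap.transvection.det, map_sub, hfx, hfy, sub_self, add_zero]⟩
  have hs : ∀ v, s.1.mulVec v = τ v := fun v => LinearMap.toMatrix'_mulVec τ v
  have hfixW : ∀ d : ℙ F (ι → F), d.submodule ≤ W → s • d = d := by
    intro d hd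
    have h1 : d.rep ∈ W := by
      rw [Projectivization.submodule_eq, Submodule.span_singleton_le_iff_mem] at hd
      exact hd
    rw [smul_eq]
    conv_rhs => rw [← d.mk_rep]
    rw [Projectivization.mk_eq_mk_iff']
    refine ⟨1, ?_⟩
    rw [one_smul, hs, hτ, LinearMap.mem_ker.1 (hfW h1), zero_smul, add_zero]
  refine ⟨s, hfixW a le_sup_left, hfixW b le_sup_right, ?_⟩
  rw [smul_eq]
  conv_rhs => rw [← c'.mk_rep]
  rw [Projectivization.mk_eq_mk_iff']
  refine ⟨t, ?_⟩
  rw [hs, hτ, ← hx, hfx, one_smul, add_sub_cancel, hy]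

end SL

end Cfsg.Agent.H384.ProjLines
end

-- part: H384/TwoCycReg
section
/-!
# An element fixing one point and permuting the others in one cycle: regularity
-/

set_option autoImplicit false

namespace Cfsg.Agent.H384.TwoCyc

open MulAction Pointwise Subgroup

variable {G Ω : Type*} [Group G] [MulAction G Ω] {g : G} {ω : Ω}

theorem Cyc.fix_pt (hc : Cyc g ({ω}ᶜ : Set Ω)) {c : G} (h : c ∈ zpowers g) : c • ω = ω :=
  hc.fixz (by simp) ⟨c, h⟩

theorem Cyc.exists_eq (hc : Cyc g ({ω}ᶜ : Set Ω)) {β γ : Ω} (hβ : β ≠ ω) (hγ : γ ≠ ω) :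
    ∃ c ∈ zpowers g, c • β = γ := by
  have h1 := hc.orb β hβ
  have h2 : γ ∈ ({ω}ᶜ : Set Ω) := hγ
  rw [← h1] at h2
  obtain ⟨⟨c, hc'⟩, h3⟩ := h2
  exact ⟨c, hc', h3⟩

/-- the group `⟨g⟩` acts freely on the points `≠ ω` -/
theorem Cyc.free [FaithfulSMul G Ω] (hc : Cyc g ({ω}ᶜ : Set Ω)) {c : G} (h : c ∈ zpowers g) {β : Ω}
    (hβ : β ≠ ω) (hf : c • β = β) : c = 1 := by
  apply FaithfulSMul.eq_of_smul_eq_smul (α := Ω)
  intro γ
  rw [one_smul]
  by_cases hγ : γ = ω
  · rw [hγ]; exact hc.fix_pt h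
  · obtain ⟨d, hd, rfl⟩ := hc.exists_eq hβ hγ
    obtain ⟨i, rfl⟩ := mem_zpowers_iff.1 h
    obtain ⟨j, rfl⟩ := mem_zpowers_iff.1 hd
    rw [smul_smul, ← zpow_add, add_comm, zpow_add, mul_smul, hf]

theorem Cyc.orderOf_eq [FaithfulSMul G Ω] [Finite Ω] (hc : Cyc g ({ω}ᶜ : Set Ω)) {β : Ω} (hβ : β ≠ ω) :
    orderOf g = Nat.card Ω - 1 := by
  have h1 := hc.orb β hβ
  have h2 : Function.Injective (fun c : zpowers g => c • β) := by
    intro c d hcd
    have h3 : (d⁻¹ * c) • β = β := by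
      rw [mul_smul, inv_smul_eq_iff]; exact hcd
    have h4 : ((d⁻¹ * c : zpowers g) : G) = 1 := hc.free (d⁻¹ * c).2 hβ h3
    have h5 : d⁻¹ * c = 1 := Subtype.ext h4
    exact (inv_mul_eq_one.1 h5).symm
  have h3 : Nat.card (zpowers g) = (Set.range fun c : zpowers g => c • β).ncard := by
    rw [← Nat.card_coe_set_eq]
    exact Nat.card_congr (Equiv.ofInjective _ h2)
  have h4 : (Set.range fun c : zpowers g => c • β) = ({ω}ᶜ : Set Ω) := h1
  rw [h4, Nat.card_zpowers] at h3
  rw [h3]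
  have h5 := Set.ncard_add_ncard_compl ({ω} : Set Ω)
  rw [Set.ncard_singleton] at h5
  omega

/-- a block of `⟨g⟩` in the points `≠ ω` is stabilised by every element of prime order dividing its size -/
theorem Cyc.smul_block [FaithfulSMul G Ω] [Finite G] [Finite Ω] (hc : Cyc g ({ω}ᶜ : Set Ω)) {D : Set Ω}
    (hD : IsBlock (zpowers g) D) (hωD : ω ∉ D) (hne : D.Nonempty) {p : ℕ} (hp : p.Prime) (hpD : p ∣ D.ncard)
    {x : G} (hx : x ∈ zpowers g) (hxp : orderOf x = p) : x • D = D := by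
  obtain ⟨β, hβ⟩ := hne
  have hβω : β ≠ ω := fun h => hωD (h ▸ hβ)
  let β0 : orbit (zpowers g) β := ⟨β, mem_orbit_self β⟩
  have h1 : IsBlock (zpowers g) (Subtype.val ⁻¹' D : Set (orbit (zpowers g) β)) := hD.preimage (incl _ β)
  have hβ0 : β0 ∈ (Subtype.val ⁻¹' D : Set (orbit (zpowers g) β)) := hβ
  have h2 := h1.ncard_block_eq_relIndex hβ0
  have hsub : D ⊆ ({ω}ᶜ : Set Ω) := fun y hy hyω => hωD (by rw [← Set.mem_singleton_iff.1 hyω]; exact hy)
  have horb : orbit (zpowers g) β = ({ω}ᶜ : Set Ω) := hc.orb β hβω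
  rw [Set.ncard_preimage_of_injective_subset_range Subtype.val_injective
    (by rw [Subtype.range_val, horb]; exact hsub)] at h2
  have hst : stabilizer (zpowers g) β0 = ⊥ := by
    rw [eq_bot_iff]
    intro c hcβ
    have h3 : c • β0 = β0 := hcβ
    have h4 : (c : G) • β = β := congrArg Subtype.val h3
    rw [Subgroup.mem_bot]
    exact Subtype.ext (hc.free c.2 hβω h4)
  rw [hst, Subgroup.relIndex_bot_left] at h2
  rw [h2] at hpD
  have : Fact p.Prime := ⟨hp⟩
  obtain ⟨⟨y, hy⟩, hyo⟩ := exists_prime_orderOf_dvd_card' p hpD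
  rw [Subgroup.orderOf_mk] at hyo
  have hx' : x ∈ (zpowers y).map (zpowers g).subtype := by
    have h5 : zpowers (⟨x, hx⟩ : zpowers g) = zpowers y := by
      apply eq_of_card
      rw [Nat.card_zpowers, Nat.card_zpowers, Subgroup.orderOf_mk, hxp, hyo]
    rw [← h5]
    exact ⟨⟨x, hx⟩, mem_zpowers _, rfl⟩
  obtain ⟨z, hz, rfl⟩ := hx'
  have h6 : z ∈ stabilizer (zpowers g) (Subtype.val ⁻¹' D : Set (orbit (zpowers g) β)) := by
    have : zpowers y ≤ stabilizer (zpowers g) (Subtype.val ⁻¹' D : Set (orbit (zpowers g) β)) := by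
      rw [zpowers_le]; exact hy
    exact this hz
  have h7 : z • D = D := by
    apply hD.smul_eq_of_mem hβ
    have h8 : z • β0 ∈ (Subtype.val ⁻¹' D : Set (orbit (zpowers g) β)) := by
      rw [mem_stabilizer_iff] at h6
      rw [← h6]
      exact Set.smul_mem_smul_set hβ0
    exact h8
  exact h7

end Cfsg.Agent.H384.TwoCyc
end

-- part: H384/TwoCycPSL
section
/-!
# 2-transitive groups with socle `PSL_d(q)`, `d ≥ 3`, on the points of the projective space: the lines are preserved;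
no element fixes a point and permutes the other points in one cycle
-/

set_option autoImplicit false

namespace Cfsg.Agent.H384.TwoCycPSL

open MulAction Pointwise Subgroup TwoTrans TwoCyc
open scoped LinearAlgebra.Projectivization

variable {G Ω : Type*} [Group G] [MulAction G Ω] {T : Subgroup G}
variable {F : Type*} [Field F] {ι : Type*} [Fintype ι] [DecidableEq ι]

/-- the line through two points -/
def Ln (Φ : Ω ≃ ℙ F (ι → F)) (α β : Ω) : Set Ω :=
  {γ | (Φ γ).submodule ≤ (Φ α).submodule ⊔ (Φ β).submodule}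

variable {Φ : Ω ≃ ℙ F (ι → F)} {e : T ≃* Matrix.ProjectiveSpecialLinearGroup ι F}

omit [Fintype ι] [DecidableEq ι] in
theorem left_mem (α β : Ω) : α ∈ Ln Φ α β := by
  change (Φ α).submodule ≤ _
  exact le_sup_left

omit [Fintype ι] [DecidableEq ι] in
theorem right_mem (α β : Ω) : β ∈ Ln Φ α β := by
  change (Φ β).submodule ≤ _
  exact le_sup_right

theorem mem_smul_iff (hΦ : ∀ (t : T) (ω : Ω), Φ (t • ω) = e t • Φ ω) (t : T) (α β γ : Ω) :
    t • γ ∈ Ln Φ (t • α) (t • β) ↔ γ ∈ Ln Φ α β := by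
  obtain ⟨s, hs⟩ := QuotientGroup.mk_surjective (e t)
  have h1 : ∀ ω, Φ (t • ω) = s • Φ ω := by
    intro ω
    rw [hΦ, ← hs]
    exact Matrix.ProjectiveSpecialLinearGroup.smul_proj_mk s (Φ ω)
  change (Φ (t • γ)).submodule ≤ (Φ (t • α)).submodule ⊔ (Φ (t • β)).submodule ↔ _
  rw [h1, h1, h1, ProjLines.smul_le_iff]
  exact Iff.rfl

theorem exists_t (hΦ : ∀ (t : T) (ω : Ω), Φ (t • ω) = e t • Φ ω) {α β γ γ' : Ω} (h : γ ∉ Ln Φ α β)
    (h' : γ' ∉ Ln Φ α β) : ∃ t : T, t • α = α ∧ t • β = β ∧ t • γ = γ' := by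
  obtain ⟨s, h1, h2, h3⟩ := ProjLines.exists_sl h h'
  have h4 : ∀ ω, Φ (e.symm (s : Matrix.ProjectiveSpecialLinearGroup ι F) • ω) = s • Φ ω := by
    intro ω
    rw [hΦ, MulEquiv.apply_symm_apply]
    exact Matrix.ProjectiveSpecialLinearGroup.smul_proj_mk s (Φ ω)
  refine ⟨e.symm (s : Matrix.ProjectiveSpecialLinearGroup ι F), ?_, ?_, ?_⟩
  · apply Φ.injective; rw [h4, h1]
  · apply Φ.injective; rw [h4, h2]
  · apply Φ.injective; rw [h4, h3]

omit [DecidableEq ι] in
theorem ncard_eq [Finite F] {α β : Ω} (h : α ≠ β) : (Ln Φ α β).ncard = Nat.card F + 1 := by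
  have h1 := ProjLines.ncard_line (fun hc => h (Φ.injective hc) : Φ α ≠ Φ β)
  have h2 : Ln Φ α β = Φ ⁻¹' {c : ℙ F (ι → F) | c.submodule ≤ (Φ α).submodule ⊔ (Φ β).submodule} := rfl
  rw [h2, Set.ncard_preimage_of_injective_subset_range Φ.injective (by rw [Φ.range_eq_univ]; exact Set.subset_univ _)]
  exact h1

/-- **`G` preserves the lines.** -/
theorem smul_line [Finite F] [Finite Ω] (hT : T.Normal) (hΦ : ∀ (t : T) (ω : Ω), Φ (t • ω) = e t • Φ ω)
    (hbig : 2 * (Nat.card F + 1) < Nat.card Ω) (g : G) {α β : Ω} (h : α ≠ β) :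
    g • Ln Φ α β = Ln Φ (g • α) (g • β) := by
  have key : ∀ (g : G) (α β : Ω), α ≠ β → ∀ γ ∉ Ln Φ α β, g • γ ∉ Ln Φ (g • α) (g • β) := by
    intro g α β h γ hγ hgγ
    have hgab : g • α ≠ g • β := fun hc => h (smul_left_cancel g hc)
    have h1 : g • (Ln Φ α β)ᶜ ⊆ Ln Φ (g • α) (g • β) := by
      rintro _ ⟨γ', hγ', rfl⟩
      obtain ⟨t, t1, t2, t3⟩ := exists_t hΦ hγ hγ'
      have ht' : g * (t : G) * g⁻¹ ∈ T := hT.conj_mem t t.2 g
      have f1 : (⟨g * (t : G) * g⁻¹, ht'⟩ : T) • (g • α) = g • α := by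
        change (g * (t : G) * g⁻¹) • (g • α) = g • α
        rw [mul_smul, mul_smul, inv_smul_smul]
        exact congrArg (g • ·) t1
      have f2 : (⟨g * (t : G) * g⁻¹, ht'⟩ : T) • (g • β) = g • β := by
        change (g * (t : G) * g⁻¹) • (g • β) = g • β
        rw [mul_smul, mul_smul, inv_smul_smul]
        exact congrArg (g • ·) t2
      have f3 : (⟨g * (t : G) * g⁻¹, ht'⟩ : T) • (g • γ) = g • γ' := by
        change (g * (t : G) * g⁻¹) • (g • γ) = g • γ'
        rw [mul_smul, mul_smul, inv_smul_smul]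
        exact congrArg (g • ·) t3
      have h2 := (mem_smul_iff hΦ (⟨g * (t : G) * g⁻¹, ht'⟩ : T) (g • α) (g • β) (g • γ)).2 hgγ
      rw [f1, f2, f3] at h2
      exact h2
    have h3 := Set.ncard_le_ncard h1
    rw [Set.ncard_smul_set] at h3
    have h4 := Set.ncard_add_ncard_compl (Ln Φ α β)
    have h5 := ncard_eq (Φ := Φ) h
    have h6 := ncard_eq (Φ := Φ) hgab
    omega
  have hgab : g • α ≠ g • β := fun hc => h (smul_left_cancel g hc)
  ext γ
  rw [Set.mem_smul_set_iff_inv_smul_mem]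
  constructor
  · intro h1
    by_contra h2
    have h3 := key g⁻¹ _ _ hgab γ h2
    rw [inv_smul_smul, inv_smul_smul] at h3
    exact h3 h1
  · intro h1
    by_contra h2
    have h3 := key g α β h _ h2
    rw [smul_inv_smul] at h3
    exact h3 h1

/-- **No element of `G` fixes one point and permutes the other points in one cycle.** -/
theorem no_cycle [Finite G] [Finite Ω] [FaithfulSMul G Ω] [Finite F] (hT : T.Normal)
    (hΦ : ∀ (t : T) (ω : Ω), Φ (t • ω) = e t • Φ ω)
    (hbig : 2 * (Nat.card F + 1) < Nat.card Ω) {p : ℕ} (hp : p.Prime) (hpF : p ∣ Nat.card F)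
    {g : G} {ω : Ω} (hc : Cyc g ({ω}ᶜ : Set Ω)) : False := by
  have := Fact.mk hp
  -- the lines through `ω`
  have hDc : ∀ β : Ω, β ≠ ω → (Ln Φ ω β \ {ω}).ncard = Nat.card F := by
    intro β hβ
    have h1 := Set.ncard_sdiff_singleton_add_one (left_mem (Φ := Φ) ω β)
    rw [ncard_eq hβ.symm] at h1
    omega
  have hDb : ∀ β : Ω, β ≠ ω → IsBlock (zpowers g) (Ln Φ ω β \ {ω}) := by
    intro β hβ
    rw [isBlock_iff_smul_eq_of_mem]
    rintro c γ ⟨hγ, hγω⟩ ⟨hcγ, hcγω⟩
    have hcω : (c : G) • ω = ω := hc.fix_pt c.2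
    have h1 : (c : G) • Ln Φ ω β = Ln Φ ω ((c : G) • β) := by
      rw [smul_line hT hΦ hbig (c : G) hβ.symm, hcω]
    have hcβ : (c : G) • β ≠ ω := by
      intro h
      apply hβ
      have h2 : (c : G) • β = (c : G) • ω := by rw [h, hcω]
      exact smul_left_cancel _ h2
    have h2 : Ln Φ ω ((c : G) • β) = Ln Φ ω β := by
      have h3 : (c : G) • γ ∈ Ln Φ ω ((c : G) • β) := by
        rw [← h1]; exact Set.smul_mem_smul_set hγ
      have h4 : (c : G) • γ ∈ Ln Φ ω β := hcγ
      have h5 : (c : G) • γ ≠ ω := hcγω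
      have e1 := ProjLines.line_eq (fun h => hcβ (Φ.injective h).symm : Φ ω ≠ Φ ((c : G) • β))
        (fun h => h5 (Φ.injective h).symm : Φ ω ≠ Φ ((c : G) • γ)) le_sup_left h3
      have e2 := ProjLines.line_eq (fun h => hβ (Φ.injective h).symm : Φ ω ≠ Φ β)
        (fun h => h5 (Φ.injective h).symm : Φ ω ≠ Φ ((c : G) • γ)) le_sup_left h4
      unfold Ln
      rw [← e1, ← e2]
    change (c : G) • (Ln Φ ω β \ {ω}) = _
    rw [Set.smul_set_sdiff, h1, h2, Set.smul_set_singleton, hcω]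
  -- the element of order `p`
  have hne : ∃ β : Ω, β ≠ ω := by
    by_contra hcon
    push Not at hcon
    have : Subsingleton Ω := ⟨fun a b => by rw [hcon a, hcon b]⟩
    have := Finite.card_le_one_iff_subsingleton.2 this
    omega
  obtain ⟨β, hβ⟩ := hne
  have hord : p ∣ Nat.card (zpowers g) := by
    have h1 := (hDb β hβ)
    have h2 : (Ln Φ ω β \ {ω}).Nonempty := ⟨β, right_mem ω β, hβ⟩
    have h3 := hc.card_dvd h1 (x := β) ⟨right_mem ω β, hβ⟩ (fun y hy => hy.2)
    rw [hDc β hβ] at h3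
    have h4 := Set.ncard_add_ncard_compl ({ω} : Set Ω)
    rw [Set.ncard_singleton] at h4
    rw [Nat.card_zpowers, hc.orderOf_eq hβ]
    refine (hpF.trans h3).trans (dvd_of_eq ?_)
    omega
  obtain ⟨⟨x, hx⟩, hxo⟩ := exists_prime_orderOf_dvd_card' p hord
  rw [Subgroup.orderOf_mk] at hxo
  have hx1 : x ≠ 1 := by
    rintro rfl
    rw [orderOf_one] at hxo
    exact hp.one_lt.ne hxo
  have hxω : x • ω = ω := hc.fix_pt hx
  have hfix : ∀ β : Ω, β ≠ ω → x • β ∈ Ln Φ ω β := by
    intro β hβ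
    have h1 := hc.smul_block (hDb β hβ) (fun h => h.2 rfl) ⟨β, right_mem ω β, hβ⟩ hp
      (by rw [hDc β hβ]; exact hpF) hx hxo
    have h2 : x • β ∈ x • (Ln Φ ω β \ {ω}) := Set.smul_mem_smul_set ⟨right_mem ω β, hβ⟩
    rw [h1] at h2
    exact h2.1
  -- a line not through `ω`
  have hγ : ∃ γ : Ω, γ ∉ Ln Φ ω β := by
    by_contra hcon
    push Not at hcon
    have h1 : Ln Φ ω β = Set.univ := Set.eq_univ_of_forall hcon
    have h2 := ncard_eq (Φ := Φ) hβ.symm
    rw [h1, Set.ncard_univ] at h2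
    omega
  obtain ⟨γ, hγ⟩ := hγ
  have hγω : γ ≠ ω := by
    rintro rfl
    exact hγ (left_mem _ _)
  have hγβ : γ ≠ β := by
    rintro rfl
    exact hγ (right_mem _ _)
  have hxβγ : x • β ≠ x • γ := fun h => hγβ (smul_left_cancel x h).symm
  obtain ⟨d, hd1, hd2⟩ := ProjLines.meet (w := Φ ω) (a := Φ β) (b := Φ γ) (a' := Φ (x • β)) (b' := Φ (x • γ))
    (fun h => hγβ (Φ.injective h).symm) (fun h => hxβγ (Φ.injective h)) (hfix β hβ) (hfix γ hγω)
  obtain ⟨δ, rfl⟩ := Φ.surjective d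
  have hδ1 : δ ∈ Ln Φ β γ := hd1
  have hδ2 : δ ∈ Ln Φ (x • β) (x • γ) := hd2
  have hωL : ω ∉ Ln Φ β γ := by
    intro h
    apply hγ
    have h1 := ProjLines.exchange (fun hc => hβ (Φ.injective hc).symm : Φ ω ≠ Φ β) h
    change (Φ γ).submodule ≤ _
    rw [sup_comm]
    exact h1
  have hδω : δ ≠ ω := fun h => hωL (h ▸ hδ1)
  rw [← smul_line hT hΦ hbig x hγβ.symm, Set.mem_smul_set_iff_inv_smul_mem] at hδ2
  have hx' : x⁻¹ ∈ zpowers g := inv_mem hx
  have hxo' : orderOf x⁻¹ = p := by rw [orderOf_inv, hxo]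
  have hfix' : x⁻¹ • δ ∈ Ln Φ ω δ := by
    have h1 := hc.smul_block (hDb δ hδω) (fun h => h.2 rfl) ⟨δ, right_mem ω δ, hδω⟩ hp
      (by rw [hDc δ hδω]; exact hpF) hx' hxo'
    have h2 : x⁻¹ • δ ∈ x⁻¹ • (Ln Φ ω δ \ {ω}) := Set.smul_mem_smul_set ⟨right_mem ω δ, hδω⟩
    rw [h1] at h2
    exact h2.1
  have hne2 : x⁻¹ • δ ≠ δ := by
    intro h
    apply hx1
    have := hc.free hx' hδω h
    rw [inv_eq_one] at this
    exact this
  have e1 := ProjLines.line_eq (fun h => hγβ (Φ.injective h).symm : Φ β ≠ Φ γ)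
    (fun h => hne2 (Φ.injective h) : Φ (x⁻¹ • δ) ≠ Φ δ) hδ2 hδ1
  have e2 := ProjLines.line_eq (fun h => hδω (Φ.injective h).symm : Φ ω ≠ Φ δ)
    (fun h => hne2 (Φ.injective h) : Φ (x⁻¹ • δ) ≠ Φ δ) hfix' le_sup_right
  apply hωL
  change (Φ ω).submodule ≤ _
  rw [← e1, e2]
  exact le_sup_left

/-- **The row `PSL_d(q)`, `d ≥ 3`.** -/
theorem psl_row (A : AS G Ω T) (F : Type*) [Field F] [Fintype F] {d : ℕ} (hd : 3 ≤ d)
    (e : T ≃* Matrix.ProjectiveSpecialLinearGroup (Fin d) F)
    (hn : Nat.card Ω * (Fintype.card F - 1) = Fintype.card F ^ d - 1) {g : G} {ω : Ω}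
    (hc : Cyc g ({ω}ᶜ : Set Ω)) : False := by
  have := A.finG
  have := A.finΩ
  have := A.faithful
  obtain ⟨m, rfl⟩ : ∃ m, d = m + 1 + 1 := ⟨d - 2, by omega⟩
  obtain ⟨p, hchar⟩ := CharP.exists F
  obtain ⟨⟨f, hf0⟩, hp, hf⟩ := FiniteField.card F p
  have := Fact.mk hp
  simp only [PNat.mk_coe] at hf
  have hq2 : 2 ≤ Fintype.card F := Fintype.one_lt_card
  have hpF : p ∣ Fintype.card F := by
    rw [hf]; exact dvd_pow_self p (by omega)
  have hpn : ¬ p ∣ Nat.card Ω := by
    intro h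
    have h1 : p ∣ Fintype.card F ^ (m + 1 + 1) - 1 := by
      rw [← hn]; exact h.mul_right _
    have h2 : p ∣ Fintype.card F ^ (m + 1 + 1) := hpF.trans (dvd_pow_self _ (by omega))
    have h3 : 1 ≤ Fintype.card F ^ (m + 1 + 1) := Nat.one_le_pow _ _ (by omega)
    have h4 := (Nat.dvd_sub_iff_right h3 h2).1 h1
    exact hp.one_lt.ne' (Nat.dvd_one.1 h4)
  obtain ⟨e', Φ, hΦ⟩ := H410.ASLie.psl_equiv A e hpn
  refine no_cycle (Φ := Φ) (e := e') A.normal hΦ ?_ hp (by rw [Nat.card_eq_fintype_card]; exact hpF) hc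
  rw [Nat.card_eq_fintype_card]
  generalize Fintype.card F = q at *
  have h1 : q ^ 3 ≤ q ^ (m + 1 + 1) := Nat.pow_le_pow_right (by omega) hd
  obtain ⟨a, rfl⟩ : ∃ a, q = a + 1 := ⟨q - 1, by omega⟩
  rw [Nat.add_sub_cancel] at hn
  by_contra hcon
  push Not at hcon
  have h2 : Nat.card Ω * a ≤ (2 * (a + 1 + 1)) * a := Nat.mul_le_mul_right _ hcon
  rw [hn] at h2
  have h3 : (a + 1) ^ 3 ≤ 2 * (a + 1 + 1) * a + 1 := by omega
  nlinarith only [hq2, h3, _root_.sq_nonneg (↑a : ℤ), _root_.Nat.cast_nonneg (α := ℤ) (a)]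

end Cfsg.Agent.H384.TwoCycPSL
end
end

-- part: H499/TTSp
section
prune_inst 0x1500440300000000000000052001c66ce000090000b00015000004004873e0000000620f6900c02808a80045030004811000100420000000a000000411d00a08008020010400004040001801084000000000000000000000000000000051004000000000
set_option linter.all false
open scoped Cfsg.Agent.FastGrp

/-!
# `Sp_{2m}(2)` on `2^(m-1) (2^m ± 1)` points has no full cycle and no `(n - 1)`-cycle (helper499)
-/

set_option autoImplicit false

namespace Cfsg.Agent.H499.TT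

open MulAction Cfsg.Agent.H384.TwoTrans Cfsg.Agent.PermutationGroups.TwoTransitiveNormal
open Cfsg.Agent.Lib.Zsigmondy (dvd_pow_sub_one_iff exists_prime_orderOf)

universe u v w

/-- an element of order 27 acting on a 2-group of exponent two needs more than 8 dimensions -/
theorem pow_nine_smul {G V : Type*} [Group G] [AddCommGroup V] [DistribMulAction G V] [Finite V]
    (h2 : ∀ v : V, v + v = 0) {d : ℕ} (hd : d ≤ 8) (hV : Nat.card V = 2 ^ d) (a : G) (ha : a ^ 27 = 1) (v : V) :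
    a ^ 9 • v = v := by
  by_contra hu
  have hb3 : (a ^ 9) ^ 3 = 1 := by
    rw [← pow_mul]
    exact ha
  generalize hbdef : a ^ 9 = b at hu hb3
  have hb3' : ∀ w : V, b • b • b • w = w := fun w => by
    rw [← mul_smul, ← mul_smul, ← pow_three', hb3, one_smul]
  -- the subgroup on which `b` has no fixed points
  let W : AddSubgroup V :=
    { carrier := {v | v + b • v + b • b • v = 0}
      add_mem' := by
        intro x y hx hy
        show (x + y) + b • (x + y) + b • b • (x + y) = 0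
        have hx' : x + b • x + b • b • x = 0 := hx
        have hy' : y + b • y + b • b • y = 0 := hy
        rw [smul_add, smul_add]
        calc x + y + (b • x + b • y) + (b • b • x + b • b • y) =
            (x + b • x + b • b • x) + (y + b • y + b • b • y) := by abel
          _ = 0 := by rw [hx', hy', add_zero]
      zero_mem' := by
        show (0 : V) + b • 0 + b • b • 0 = 0
        rw [smul_zero, smul_zero, add_zero, add_zero]
      neg_mem' := by
        intro x hx
        have hx' : x + b • x + b • b • x = 0 := hx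
        show -x + b • (-x) + b • b • (-x) = 0
        rw [smul_neg, smul_neg]
        calc -x + -(b • x) + -(b • b • x) = -(x + b • x + b • b • x) := by abel
          _ = 0 := by rw [hx', neg_zero] }
  have hWg : ∀ g : G, g * b = b * g → ∀ v ∈ W, g • v ∈ W := by
    intro g hg v hv
    have hv' : v + b • v + b • b • v = 0 := hv
    show g • v + b • g • v + b • b • g • v = 0
    have hc : ∀ w : V, b • g • w = g • b • w := fun w => by
      rw [← mul_smul, ← mul_smul, hg]
    rw [hc, hc, ← smul_add, ← smul_add, hv', smul_zero]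
  have hfix : ∀ v ∈ W, b • v = v → v = 0 := by
    intro v hv hbv
    have hv' : v + b • v + b • b • v = 0 := hv
    rw [hbv, hbv, h2, zero_add] at hv'
    exact hv'
  let S : Set V := (W : Set V) \ {0}
  have hper : ∀ x ∈ S, Function.minimalPeriod (a • ·) x = 27 := by
    intro x hx
    have h27 : Function.minimalPeriod (fun y : V => a • y) x ∣ 3 ^ 3 := by
      apply Function.IsPeriodicPt.minimalPeriod_dvd
      show (fun y : V => a • y)^[3 ^ 3] x = x
      rw [smul_iterate]
      show a ^ 27 • x = x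
      rw [ha, one_smul]
    have hnot : ¬ Function.minimalPeriod (fun y : V => a • y) x ∣ 9 := by
      intro h
      have h1 : (fun y : V => a • y)^[9] x = x :=
        (Function.isPeriodicPt_minimalPeriod (fun y : V => a • y) x).trans_dvd h
      rw [smul_iterate] at h1
      have h2 : b • x = x := by
        rw [← hbdef]
        exact h1
      exact hx.2 (hfix x hx.1 h2)
    obtain ⟨j, hj, hj'⟩ := (Nat.dvd_prime_pow (m := 3) Nat.prime_three).1 h27
    interval_cases j
    · exact absurd (by rw [hj']; norm_num) hnot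
    · exact absurd (by rw [hj']; norm_num) hnot
    · exact absurd (by rw [hj']; norm_num) hnot
    · exact hj'
  have hdvd : 27 ∣ S.ncard := by
    apply dvd_ncard_of_index_stabilizer_eq (G := Subgroup.zpowers a) (Set.toFinite _)
    · rintro ⟨g, k, rfl⟩ x hx
      refine ⟨hWg (a ^ k) ?_ x hx.1, ?_⟩
      · rw [← hbdef]
        exact (((Commute.refl a).pow_right 9).zpow_left k).eq
      · intro h0
        have h0' : (a ^ k) • x = 0 := h0
        exact hx.2 ((smul_eq_zero_iff_eq (a ^ k)).1 h0')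
    · intro x hx
      rw [MulAction.index_stabilizer, ← Nat.card_coe_set_eq]
      have := Fintype.ofFinite (orbit (Subgroup.zpowers a) x)
      rw [Nat.card_eq_fintype_card, ← MulAction.minimalPeriod_eq_card]
      exact hper x hx
  have hcard : Nat.card W ∣ 2 ^ d := by
    rw [← hV]
    exact AddSubgroup.card_addSubgroup_dvd_card W
  obtain ⟨j, hj, hj'⟩ := (Nat.dvd_prime_pow Nat.prime_two).1 hcard
  have hS : S.ncard = 2 ^ j - 1 := by
    rw [Set.ncard_sdiff_singleton_of_mem (zero_mem W), ← hj']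
    congr 1
  have hj0 : j ≠ 0 := by
    intro h0
    rw [h0, pow_zero] at hj'
    have hw : b • v - v ∈ W := by
      show (b • v - v) + b • (b • v - v) + b • b • (b • v - v) = 0
      rw [smul_sub, smul_sub, hb3']
      abel
    have := (AddSubgroup.card_eq_one).1 hj'
    rw [this] at hw
    exact hu (sub_eq_zero.1 (AddSubgroup.mem_bot.1 hw))
  rw [hS] at hdvd
  have hj8 : j ≤ 8 := hj.trans hd
  clear hj' hS hcard hj
  interval_cases j
  · exact hj0 rfl
  all_goals revert hdvd; decide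

/-- `Sp_{2m}(2)`, `m ≤ 4`, has no element of order 27 -/
theorem sp_not_27 {F : Type w} [Field F] [Fintype F] {m : ℕ} (hF : Fintype.card F = 2) (hm : m ≤ 4) (hm1 : 1 ≤ m)
    (x : Cfsg.PSp m F) : ¬ 27 ∣ orderOf x := by
  classical
  intro hx
  obtain ⟨A, rfl⟩ := QuotientGroup.mk_surjective x
  have hc : Subgroup.center (Matrix.symplecticGroup (Fin m) F) = ⊥ := by
    rw [← Subgroup.card_eq_one, Cfsg.Agent.LieClassical.SympCenter.card_center hm1, hF]
    rfl
  have hinj : Function.Injective (QuotientGroup.mk' (Subgroup.center (Matrix.symplecticGroup (Fin m) F))) := by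
    rw [← MonoidHom.ker_eq_bot_iff, QuotientGroup.ker_mk', hc]
  have hord : orderOf (QuotientGroup.mk A : Cfsg.PSp m F) = orderOf A := orderOf_injective _ hinj A
  rw [hord] at hx
  obtain ⟨t, ht⟩ := hx
  have ht0 : t ≠ 0 := by
    rintro rfl
    rw [mul_zero] at ht
    exact (orderOf_pos A).ne' ht
  have hB : orderOf (A ^ t) = 27 := by
    rw [orderOf_pow' A ht0, ht, Nat.gcd_eq_right (Dvd.intro_left _ rfl), Nat.mul_div_cancel _ (Nat.pos_of_ne_zero ht0)]
  generalize A ^ t = B at hB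
  let act : DistribMulAction (Matrix.symplecticGroup (Fin m) F) (Fin m ⊕ Fin m → F) :=
    { smul := fun A v => A.1.mulVec v
      one_smul := fun v => Matrix.one_mulVec v
      mul_smul := fun A B v => (Matrix.mulVec_mulVec v A.1 B.1).symm
      smul_zero := fun A => Matrix.mulVec_zero A.1
      smul_add := fun A v w => Matrix.mulVec_add A.1 v w }
  have h2 : (2 : F) = 0 := by
    have := FiniteField.cast_card_eq_zero F
    rw [hF] at this
    exact_mod_cast this
  have hV : Nat.card (Fin m ⊕ Fin m → F) = 2 ^ (2 * m) := by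
    rw [Nat.card_eq_fintype_card, Fintype.card_fun, hF, Fintype.card_sum, Fintype.card_fin, two_mul]
  have key : ∀ v : Fin m ⊕ Fin m → F, B ^ 9 • v = v := by
    intro v
    apply pow_nine_smul (d := 2 * m) (fun v => ?_) (by omega) hV B (by rw [← hB, pow_orderOf_eq_one])
    ext i
    show v i + v i = 0
    rw [← two_mul, h2, zero_mul]
  have h1 : B ^ 9 = 1 := by
    apply Subtype.ext
    apply Matrix.ext_of_mulVec_single
    intro i
    have := key (Pi.single i 1)
    rw [show ((1 : Matrix.symplecticGroup (Fin m) F) : Matrix (Fin m ⊕ Fin m) (Fin m ⊕ Fin m) F) = 1 from rfl,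
      Matrix.one_mulVec]
    exact this
  have h3 := orderOf_dvd_of_pow_eq_one h1
  rw [hB] at h3
  omega

/-- nonadjacency in `PSp_{2m}(2)` -/
theorem sp_kill {F : Type w} [Field F] [Fintype F] {m : ℕ} (hF : Fintype.card F = 2) (hm : 3 ≤ m)
    {r s k l ηk ηl : ℕ} (hr : r.Prime) (hs : s.Prime) (hr2 : r ≠ 2) (hs2 : s ≠ 2) (hrs : r ≠ s)
    (hk : orderOf ((2 : ℕ) : ZMod r) = k) (hl : orderOf ((2 : ℕ) : ZMod s) = l)
    (hηk : (Odd k ∧ ηk = k) ∨ (Even k ∧ 2 * ηk = k)) (hηl : (Odd l ∧ ηl = l) ∨ (Even l ∧ 2 * ηl = l))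
    (hkl : ηk ≤ ηl) (hsum : m < ηk + ηl) (hdiv : ¬ ∃ t : ℕ, Odd t ∧ l = k * t)
    (x : Cfsg.PSp m F) (hx : r * s ∣ orderOf x) : False := by
  have : Fact (Nat.Prime 2) := ⟨Nat.prime_two⟩
  have hchar : CharP F 2 := by
    obtain ⟨p, hp⟩ := CharP.exists F
    obtain ⟨n, hp', hn⟩ := FiniteField.card F p
    rw [hF] at hn
    have h1 : p ∣ 2 := by
      rw [hn]
      exact dvd_pow_self p n.ne_zero
    have h2 : p = 2 := (Nat.prime_dvd_prime_iff_eq hp' Nat.prime_two).1 h1
    rwa [h2] at hp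
  have h0 : orderOf x ≠ 0 := (orderOf_pos x).ne'
  have hcard : orderOf x ∣ Nat.card (Cfsg.PSp m F) := orderOf_dvd_natCard x
  have h1 := (Cfsg.Agent.S2469.result (F := F) 2 m (by omega) (by omega) r s hr hs hr2 hs2 hr2 hs2 hrs
    (((Dvd.intro s rfl).trans hx).trans hcard) (((Dvd.intro_left r rfl).trans hx).trans hcard) k l ηk ηl
    (by rw [hF]; exact hk.symm) (by rw [hF]; exact hl.symm) hηk hηl hkl).2 ⟨hsum, hdiv⟩
  apply h1
  obtain ⟨t, ht⟩ := hx
  have ht0 : t ≠ 0 := by
    rintro rfl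
    rw [mul_zero] at ht
    exact h0 ht
  refine ⟨x ^ t, ?_⟩
  rw [orderOf_pow' x ht0, ht, Nat.gcd_eq_right (Dvd.intro_left _ rfl), Nat.mul_div_cancel _ (Nat.pos_of_ne_zero ht0)]

theorem dvd_two_pow_add_one {s t : ℕ} (hs : s.Prime) (ht : 1 ≤ t) (h : orderOf ((2 : ℕ) : ZMod s) = 2 * t) :
    s ∣ 2 ^ t + 1 := by
  have h1 : s ∣ 2 ^ (2 * t) - 1 := (dvd_pow_sub_one_iff (by norm_num) (2 * t)).2 h.dvd
  have h2 : 2 ^ (2 * t) - 1 = (2 ^ t + 1) * (2 ^ t - 1) := by
    rw [mul_comm 2 t, pow_mul]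
    have : 1 ≤ 2 ^ t := Nat.one_le_two_pow
    have h3 := Nat.sq_sub_sq (2 ^ t) 1
    rwa [one_pow] at h3
  rw [h2] at h1
  rcases hs.dvd_mul.1 h1 with h3 | h3
  · exact h3
  · exfalso
    have h4 := (dvd_pow_sub_one_iff (by norm_num) t).1 h3
    rw [h] at h4
    have := Nat.le_of_dvd (by omega) h4
    omega

theorem dvd_two_pow_sub_one {s t : ℕ} (h : orderOf ((2 : ℕ) : ZMod s) = t) : s ∣ 2 ^ t - 1 :=
  (dvd_pow_sub_one_iff (by norm_num) t).2 h.dvd

theorem ne_two_of_orderOf {s t : ℕ} (ht : 2 ≤ t) (h : orderOf ((2 : ℕ) : ZMod s) = t) : s ≠ 2 := by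
  rintro rfl
  have h1 : ((2 : ℕ) : ZMod 2) = 0 := by decide
  rw [h1, orderOf_zero] at h
  omega

theorem ne_of_orderOf {r s k l : ℕ} (hk : orderOf ((2 : ℕ) : ZMod r) = k) (hl : orderOf ((2 : ℕ) : ZMod s) = l)
    (h : k ≠ l) : r ≠ s := by
  rintro rfl
  exact h (hk.symm.trans hl)

theorem three_ne_two_pow : ¬ ∃ k, 2 + 1 = 2 ^ k := by
  rintro ⟨k, hk⟩
  rcases Nat.lt_or_ge k 2 with h | h
  · interval_cases k <;> omega
  · have : 2 ^ 2 ≤ 2 ^ k := Nat.pow_le_pow_right (by norm_num) h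
    omega

theorem sp_plus {F : Type w} [Field F] [Fintype F] {m : ℕ} (hF : Fintype.card F = 2) (hm : 3 ≤ m)
    (x : Cfsg.PSp m F) (hx : orderOf x = (2 ^ m - 1) * (2 ^ (m - 1) + 1)) : False := by
  by_cases h4 : m = 4
  · subst h4
    apply sp_not_27 hF (by norm_num) (by norm_num) x
    rw [hx]
    norm_num
  by_cases h6 : m = 6
  · subst h6
    have h7 : orderOf ((2 : ℕ) : ZMod 7) = 3 :=
      (orderOf_eq_iff (by norm_num)).2 ⟨by decide, fun j hj hj0 => by interval_cases j <;> decide⟩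
    have h11 : orderOf ((2 : ℕ) : ZMod 11) = 10 :=
      (orderOf_eq_iff (by norm_num)).2 ⟨by decide, fun j hj hj0 => by interval_cases j <;> decide⟩
    refine sp_kill hF (by norm_num) (r := 7) (s := 11) (by norm_num) (by norm_num) (by norm_num) (by norm_num)
      (by norm_num) h7 h11 (Or.inl ⟨by decide, rfl⟩) (Or.inr ⟨by decide, rfl⟩) (ηl := 5) (by norm_num) (by norm_num)
      ?_ x (by rw [hx]; norm_num)
    rintro ⟨t, -, ht⟩
    omega
  obtain ⟨r, hr, hrm⟩ := exists_prime_orderOf (a := 2) (n := m) le_rfl (by omega) (fun h => by omega)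
    (fun h => h6 h.2)
  obtain ⟨s, hs, hsm⟩ := exists_prime_orderOf (a := 2) (n := 2 * (m - 1)) le_rfl (by omega) (fun h => by omega)
    (fun h => h4 (by omega))
  have hr2 := ne_two_of_orderOf (by omega) hrm
  have hs2 := ne_two_of_orderOf (by omega) hsm
  have hd : r * s ∣ orderOf x := by
    rw [hx]
    exact Nat.mul_dvd_mul (dvd_two_pow_sub_one hrm) (dvd_two_pow_add_one hs (by omega) hsm)
  rcases Nat.even_or_odd' m with ⟨c, hc | hc⟩
  · refine sp_kill hF hm hr hs hr2 hs2 (ne_of_orderOf hrm hsm (by (clear * - hm; omega))) hrm hsm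
      (ηk := c) (ηl := m - 1) (Or.inr ⟨⟨c, by omega⟩, by omega⟩) (Or.inr ⟨⟨m - 1, by omega⟩, rfl⟩) (by (clear * - hc; omega)) (by (clear * - hm hc; omega))
      ?_ x hd
    rintro ⟨t, -, ht⟩
    have h1 : c * t = 2 * c - 1 := by
      have : 2 * (2 * c - 1) = 2 * c * t := by
        rw [← hc]
        exact ht
      have h5 : 2 * c * t = 2 * (c * t) := by ring
      omega
    have h2 : c ∣ 1 := by
      have h3 : c ∣ 2 * c := Dvd.intro_left 2 rfl
      have h5 : c ∣ 2 * c - 1 := ⟨t, h1.symm⟩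
      have h7 := (Nat.dvd_sub h3 h5)
      have h8 : 2 * c - (2 * c - 1) = 1 := by omega
      rwa [h8] at h7
    have := Nat.le_of_dvd (by norm_num) h2
    omega
  · rw [mul_comm] at hd
    refine sp_kill hF hm hs hr hs2 hr2 (ne_of_orderOf hsm hrm (by omega)) hsm hrm
      (ηk := m - 1) (ηl := m) (Or.inr ⟨⟨m - 1, by omega⟩, rfl⟩) (Or.inl ⟨⟨c, by omega⟩, rfl⟩) (by (clear * - hm hrm hr2 hs2 hc; omega)) (by (clear * - hm; omega))
      ?_ x hd
    rintro ⟨t, -, ht⟩
    rcases Nat.eq_zero_or_pos t with h | h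
    · rw [h, mul_zero] at ht
      omega
    · have : 2 * (m - 1) * 1 ≤ 2 * (m - 1) * t := Nat.mul_le_mul_left _ h
      (clear * - hm ht this; omega)

theorem sp_minus {F : Type w} [Field F] [Fintype F] {m : ℕ} (hF : Fintype.card F = 2) (hm : 3 ≤ m)
    (x : Cfsg.PSp m F) (hx : orderOf x = (2 ^ (m - 1) - 1) * (2 ^ m + 1)) : False := by
  by_cases h3 : m = 3
  · subst h3
    apply sp_not_27 hF (by norm_num) (by norm_num) x
    rw [hx]
    norm_num
  by_cases h7 : m = 7
  · subst h7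
    have h7 : orderOf ((2 : ℕ) : ZMod 7) = 3 :=
      (orderOf_eq_iff (by norm_num)).2 ⟨by decide, fun j hj hj0 => by interval_cases j <;> decide⟩
    have h43 : orderOf ((2 : ℕ) : ZMod 43) = 14 :=
      (orderOf_eq_iff (by norm_num)).2 ⟨by decide, fun j hj hj0 => by interval_cases j <;> decide⟩
    refine sp_kill hF (by norm_num) (r := 7) (s := 43) (by norm_num) (by norm_num) (by norm_num) (by norm_num)
      (by norm_num) h7 h43 (Or.inl ⟨by decide, rfl⟩) (Or.inr ⟨by decide, rfl⟩) (ηl := 7) (by norm_num) (by norm_num)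
      ?_ x (by rw [hx]; norm_num)
    rintro ⟨t, -, ht⟩
    omega
  obtain ⟨r, hr, hrm⟩ := exists_prime_orderOf (a := 2) (n := m - 1) le_rfl (by omega) (fun _ => three_ne_two_pow)
    (fun h => h7 (by omega))
  obtain ⟨s, hs, hsm⟩ := exists_prime_orderOf (a := 2) (n := 2 * m) le_rfl (by omega) (fun h => by omega)
    (fun h => h3 (by omega))
  have hr2 := ne_two_of_orderOf (by omega) hrm
  have hs2 := ne_two_of_orderOf (by omega) hsm
  have hd : r * s ∣ orderOf x := by
    rw [hx]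
    exact Nat.mul_dvd_mul (dvd_two_pow_sub_one hrm) (dvd_two_pow_add_one hs (by omega) hsm)
  have hdiv : ¬ ∃ t : ℕ, Odd t ∧ 2 * m = (m - 1) * t := by
    rintro ⟨t, -, ht⟩
    rcases Nat.lt_or_ge t 3 with h | h
    · interval_cases t <;> (clear * - hm ht hr2 hs2; omega)
    · have : (m - 1) * 3 ≤ (m - 1) * t := Nat.mul_le_mul_left _ h
      (clear * - hm h3 ht this; omega)
  rcases Nat.even_or_odd' (m - 1) with ⟨c, hc | hc⟩
  · exact sp_kill hF hm hr hs hr2 hs2 (ne_of_orderOf hrm hsm (by (clear * - hm; omega))) hrm hsm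
      (ηk := c) (ηl := m) (Or.inr ⟨⟨c, by omega⟩, by omega⟩) (Or.inr ⟨⟨m, by omega⟩, rfl⟩) (by omega) (by omega)
      hdiv x hd
  · exact sp_kill hF hm hr hs hr2 hs2 (ne_of_orderOf hrm hsm (by omega)) hrm hsm
      (ηk := m - 1) (ηl := m) (Or.inl ⟨⟨c, by omega⟩, rfl⟩) (Or.inr ⟨⟨m, by omega⟩, rfl⟩) (by omega) (by omega)
      hdiv x hd

section

variable {G : Type u} {Ω : Type v} [Group G] [MulAction G Ω] {T : Subgroup G}

theorem sp_index (A : AS G Ω T) {F : Type w} [Field F] [Fintype F] {m : ℕ} (hF : Fintype.card F = 2) (hm : 3 ≤ m)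
    (e : ↥T ≃* Cfsg.PSp m F) : T = ⊤ := by
  have : Fact (Nat.Prime 2) := ⟨Nat.prime_two⟩
  have h1 := Cfsg.Agent.S0814.result (F := F) 2 1 le_rfl (by rw [hF]; rfl) m (by omega) (by omega)
  rw [if_neg (by omega)] at h1
  rw [← Subgroup.index_eq_one]
  have h2 := index_dvd_aut A e (k := 1) (by rw [h1]; simp)
  exact Nat.dvd_one.1 h2

theorem sp_full (A : AS G Ω T) {F : Type w} [Field F] [Fintype F] {m : ℕ} (hF : Fintype.card F = 2) (hm : 3 ≤ m)
    (e : ↥T ≃* Cfsg.PSp m F)
    (hn : Nat.card Ω = 2 ^ (m - 1) * (2 ^ m + 1) ∨ Nat.card Ω = 2 ^ (m - 1) * (2 ^ m - 1))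
    {g : G} (hg : IsPretransitive (Subgroup.zpowers g) Ω) : False := by
  have h1 := full_even A hg (by
    have h2 : Even (2 ^ (m - 1)) := by
      rw [Nat.even_pow]
      exact ⟨even_two, by omega⟩
    rcases hn with hn | hn <;> rw [hn] <;> exact h2.mul_right _)
  rw [sp_index A hF hm e, Subgroup.index_top] at h1
  omega

theorem sp_point (A : AS G Ω T) {F : Type w} [Field F] [Fintype F] {m : ℕ} (hF : Fintype.card F = 2) (hm : 3 ≤ m)
    (e : ↥T ≃* Cfsg.PSp m F)
    (hn : Nat.card Ω = 2 ^ (m - 1) * (2 ^ m + 1) ∨ Nat.card Ω = 2 ^ (m - 1) * (2 ^ m - 1))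
    {g : G} {a : Ω} (hg : PtCyc g a) : False := by
  have hT := sp_index A hF hm e
  have hgT : g ∈ T := by
    rw [hT]
    trivial
  have h1 := point_order A hg
  have h2 : orderOf (e ⟨g, hgT⟩) = Nat.card Ω - 1 := by
    rw [MulEquiv.orderOf_eq, Subgroup.orderOf_mk, h1]
  obtain ⟨b, rfl⟩ : ∃ b, m = b + 1 := ⟨m - 1, by omega⟩
  rw [Nat.add_sub_cancel] at hn
  obtain ⟨c, hc⟩ : ∃ c, 2 ^ b = c + 1 := ⟨2 ^ b - 1, by have := Nat.one_le_two_pow (n := b); omega⟩
  have hc' : 2 ^ (b + 1) = 2 * c + 2 := by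
    rw [pow_succ, hc]
    ring
  rcases hn with hn | hn
  · apply sp_plus hF hm _
    rw [h2, hn, Nat.add_sub_cancel, hc, hc']
    have h3 : (c + 1) * (2 * c + 2 + 1) = (2 * c + 1) * (c + 1 + 1) + 1 := by ring
    rw [h3, Nat.add_sub_cancel]
    rfl
  · apply sp_minus hF hm _
    rw [h2, hn, Nat.add_sub_cancel, hc, hc', Nat.add_sub_cancel]
    have h3 : (c + 1) * (2 * c + 2 - 1) = c * (2 * c + 2 + 1) + 1 := by
      have : 2 * c + 2 - 1 = 2 * c + 1 := by omega
      rw [this]
      ring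
    rw [h3, Nat.add_sub_cancel]

end

end Cfsg.Agent.H499.TT
end
end
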