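import Cfsg.Agent.H499.TTSmall
import Cfsg.Agent.S0205
import Cfsg.Agent.S0215
import Cfsg.Agent.H994.TwoGen.M11
import Cfsg.Agent.MTwelveType.SylowModel
import Cfsg.Agent.H729.M22Deg
import Cfsg.Agent.SporadicA.MathieuRecog
import Cfsg.Agent.H49.CoStab
import Cfsg.Agent.KFacts.HS.Base
import Cfsg.Agent.BpSpor.CoThreeFive
import Cfsg.Agent.S2071
import Cfsg.Agent.S2072
import Cfsg.Agent.H499.TTSz_mg_m3
import Cfsg.Agent.HKS.EndOrd
import Cfsg.Agent.H667.TwoPSURow_m3
import Cfsg.Agent.H125.TwoRee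
import Cfsg.Agent.FastGrp
import Cfsg.Agent.Prune
set_option linter.all false
prune_inst 0x7f00000000000000000000000000000000000000000000000000000000000000000000000000000000000000000000000000000000000000000000000000000000000000000000000000000000000000003fffffffffffffffffffffffffffbeffbdffffffff
open scoped Cfsg.Agent.FastGrp

-- part: H499/TTNorm
section
/-!
# Elements of prime order generating a normal subgroup of a point stabiliser of a 2-transitive group (helper499)

* `NC a s x` : `x` has prime order `s`, fixes `a`, and `⟨x⟩` is normal in the stabiliser of `a`;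
* `NC.free` : `x` acts semiregularly on the other points;
* `NC.odd` : `s ≠ 2` if the socle is non-abelian (`Z*`);
* `NC.card_dvd` : `|K|` divides `(s - 1) |C_K(x)|` for `K ≤ G_a`;
* `NC.cent_dvd` : `|C_G(x)|` divides `s ^ m m!`, where `n = 1 + m s`.
-/

set_option autoImplicit false

namespace Cfsg.Agent.H499.TT

open MulAction Subgroup Cfsg.Agent.H384.TwoTrans

universe u v w

variable {G : Type u} {Ω : Type v} [Group G] [MulAction G Ω]

/-- `|K|` divides `(s - 1) |C_K(x)|` if `K` normalises `⟨x⟩`, of prime order `s` -/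
theorem card_dvd_of_norm [Finite G] {x : G} {s : ℕ} (hs : s.Prime) (hx : orderOf x = s) (K : Subgroup G)
    (hK : ∀ k ∈ K, k * x * k⁻¹ ∈ zpowers x) :
    Nat.card K ∣ (s - 1) * Nat.card ↥(K ⊓ centralizer ({x} : Set G)) := by
  have hn : K ≤ normalizer ((zpowers x : Subgroup G) : Set G) := by
    intro k hk
    rw [mem_normalizer_iff]
    have key : ∀ g ∈ K, ∀ c ∈ zpowers x, g * c * g⁻¹ ∈ zpowers x := by
      intro g hg c hc
      obtain ⟨i, rfl⟩ := mem_zpowers_iff.1 hc
      rw [← conj_zpow]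
      exact zpow_mem (hK g hg) i
    intro c
    refine ⟨key k hk c, fun hc => ?_⟩
    have h1 := key k⁻¹ (K.inv_mem hk) _ hc
    have h2 : k⁻¹ * (k * c * k⁻¹) * k⁻¹⁻¹ = c := by group
    rwa [h2] at h1
  let f : K →* MulAut (zpowers x) := (normalizerMonoidHom (zpowers x)).comp (inclusion hn)
  have hcard : Nat.card (MulAut (zpowers x)) = s - 1 := by
    rw [IsCyclic.card_mulAut, Nat.card_zpowers, hx, Nat.totient_prime hs]
  have hker : Nat.card f.ker = Nat.card ↥(K ⊓ centralizer ({x} : Set G)) := by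
    have h1 : f.ker.map K.subtype = K ⊓ centralizer ({x} : Set G) := by
      ext g
      constructor
      · rintro ⟨k, hk, rfl⟩
        refine ⟨k.2, ?_⟩
        show (k : G) ∈ centralizer ({x} : Set G)
        rw [mem_centralizer_singleton_iff]
        have h2 : f k = 1 := hk
        have h3 := congrArg Subtype.val (DFunLike.congr_fun h2 ⟨x, mem_zpowers x⟩)
        have h4 : (k : G) * x * (k : G)⁻¹ = x := h3
        rwa [mul_inv_eq_iff_eq_mul] at h4
      · rintro ⟨hg, hg'⟩
        refine ⟨⟨g, hg⟩, ?_, rfl⟩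
        show f ⟨g, hg⟩ = 1
        ext c
        obtain ⟨c, hc⟩ := c
        obtain ⟨i, rfl⟩ := mem_zpowers_iff.1 hc
        have h2 : g ∈ centralizer ({x} : Set G) := hg'
        rw [mem_centralizer_singleton_iff] at h2
        show g * x ^ i * g⁻¹ = x ^ i
        rw [mul_inv_eq_iff_eq_mul]
        exact ((show Commute g x from h2).zpow_right i).eq
    rw [← h1]
    exact Nat.card_congr (f.ker.equivMapOfInjective _ K.subtype_injective).toEquiv
  rw [← hker, ← f.ker.index_mul_card, index_ker, ← hcard]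
  exact Nat.mul_dvd_mul_right (card_subgroup_dvd_card _) _

/-- `x` has prime order `s`, fixes `a`, and `⟨x⟩` is normal in the stabiliser of `a` -/
structure NC (a : Ω) (s : ℕ) (x : G) : Prop where
  prime : s.Prime
  ord : orderOf x = s
  fix : x • a = a
  norm : ∀ g : G, g • a = a → g * x * g⁻¹ ∈ zpowers x

namespace NC

variable {a : Ω} {s : ℕ} {x : G}

theorem ne_one (h : NC a s x) : x ≠ 1 := by
  rintro rfl
  have := h.ord
  rw [orderOf_one] at this
  exact h.prime.one_lt.ne this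

theorem mem_of_mem (h : NC a s x) {c : G} (hc : c ∈ zpowers x) (hc1 : c ≠ 1) : x ∈ zpowers c := by
  have hfin : Finite (zpowers x) := by
    apply Nat.finite_of_card_ne_zero
    rw [Nat.card_zpowers, h.ord]
    exact h.prime.ne_zero
  have h1 : orderOf c ∣ s := by
    rw [← h.ord, ← Nat.card_zpowers, ← Nat.card_zpowers]
    exact card_dvd_of_le (by rw [zpowers_le]; exact hc)
  have h2 : orderOf c = s := by
    rcases (Nat.dvd_prime h.prime).1 h1 with h3 | h3
    · exact absurd (orderOf_eq_one_iff.1 h3) hc1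
    · exact h3
  have h3 : zpowers c = zpowers x := by
    apply eq_of_le_of_card_ge (by rw [zpowers_le]; exact hc)
    rw [Nat.card_zpowers, Nat.card_zpowers, h2, h.ord]
  rw [h3]
  exact mem_zpowers x

theorem fix_mem {b : Ω} {c d : G} (hc : c • b = b) (hd : d ∈ zpowers c) : d • b = b := by
  have : zpowers c ≤ stabilizer G b := by
    rw [zpowers_le]
    exact hc
  exact this hd

/-- `x` acts semiregularly on the other points -/
theorem free [FaithfulSMul G Ω] (h2 : IsMultiplyPretransitive G Ω 2) (h : NC a s x) {c : G} (hc : c ∈ zpowers x)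
    (hc1 : c ≠ 1) {b : Ω} (hb : c • b = b) : b = a := by
  by_contra hba
  have hxb : x • b = b := fix_mem hb (h.mem_of_mem hc hc1)
  apply h.ne_one
  apply FaithfulSMul.eq_of_smul_eq_smul (α := Ω)
  intro d
  rw [one_smul]
  by_cases hd : d = a
  · rw [hd]
    exact h.fix
  · obtain ⟨g, hga, hgb⟩ := two_pts h2 a b a d (Ne.symm hba) (Ne.symm hd)
    have hga' : g⁻¹ • a = a := by rw [inv_smul_eq_iff, hga]
    have h1 := h.norm g⁻¹ hga'
    rw [inv_inv] at h1
    have h3 := fix_mem hxb h1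
    rw [mul_smul, mul_smul, inv_smul_eq_iff, hgb] at h3
    exact h3

theorem smul_eq_of_norm [FaithfulSMul G Ω] (h2 : IsMultiplyPretransitive G Ω 2) (h : NC a s x) {g : G}
    (hg : g * x * g⁻¹ ∈ zpowers x) : g • a = a := by
  apply h.free h2 hg
  · intro h1
    rw [mul_inv_eq_one] at h1
    exact h.ne_one (mul_eq_left.1 h1)
  · rw [mul_smul, mul_smul, inv_smul_smul, h.fix]

theorem smul_eq_of_comm [FaithfulSMul G Ω] (h2 : IsMultiplyPretransitive G Ω 2) (h : NC a s x) {g : G}
    (hg : g * x = x * g) : g • a = a := by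
  apply h.smul_eq_of_norm h2
  rw [hg, mul_inv_cancel_right]
  exact mem_zpowers x

theorem modEq [Finite Ω] [FaithfulSMul G Ω] (h2 : IsMultiplyPretransitive G Ω 2) (h : NC a s x) :
    s ∣ Nat.card Ω - 1 := by
  have hp : Fact s.Prime := ⟨h.prime⟩
  have hpg : IsPGroup s (zpowers x) := by
    apply IsPGroup.of_card (n := 1)
    rw [Nat.card_zpowers, h.ord, pow_one]
  have h1 := hpg.card_modEq_card_fixedPoints Ω
  have h3 : fixedPoints (zpowers x) Ω = {a} := by
    ext b
    constructor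
    · intro hb
      exact h.free h2 (mem_zpowers x) h.ne_one (hb ⟨x, mem_zpowers x⟩)
    · rintro rfl
      intro c
      exact fix_mem (d := (c : G)) h.fix c.2
  rw [h3, Nat.card_coe_set_eq, Set.ncard_singleton] at h1
  have : Nonempty Ω := ⟨a⟩
  exact (Nat.modEq_iff_dvd' Nat.card_pos).1 h1.symm

/-- `|K|` divides `(s - 1) |C_K(x)|` for `K ≤ G_a` -/
theorem card_dvd [Finite G] (h : NC a s x) (K : Subgroup G) (hK : ∀ k ∈ K, k • a = a) :
    Nat.card K ∣ (s - 1) * Nat.card ↥(K ⊓ centralizer ({x} : Set G)) :=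
  card_dvd_of_norm h.prime h.ord K fun k hk => h.norm k (hK k hk)

/-- `|C_G(x)|` divides `s ^ m m!`, where `n = 1 + m s` -/
theorem cent_dvd [Finite G] [Finite Ω] [FaithfulSMul G Ω] (h2 : IsMultiplyPretransitive G Ω 2) (h : NC a s x) {m : ℕ}
    (hm : Nat.card Ω = 1 + m * s) : Nat.card ↥(centralizer ({x} : Set G)) ∣ s ^ m * m.factorial := by
  classical
  have := Fintype.ofFinite Ω
  set σ : Equiv.Perm Ω := toPermHom G Ω x with hσ
  have hord : orderOf σ = s := by rw [hσ, orderOf_injective _ toPerm_injective, h.ord]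
  have hprime : (orderOf σ).Prime := by rw [hord]; exact h.prime
  obtain ⟨k, hk⟩ := Equiv.Perm.cycleType_prime_order hprime
  rw [hord] at hk
  -- the support
  have hsupp : σ.support = {a}ᶜ := by
    ext b
    rw [Equiv.Perm.mem_support, Finset.mem_compl, Finset.mem_singleton, not_iff_not]
    constructor
    · intro hb
      exact h.free h2 (mem_zpowers x) h.ne_one hb
    · rintro rfl
      exact h.fix
  have hsum : σ.cycleType.sum = Fintype.card Ω - 1 := by
    rw [σ.sum_cycleType, hsupp, Finset.card_compl, Finset.card_singleton]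
  rw [Nat.card_eq_fintype_card] at hm
  have hkm : k + 1 = m := by
    rw [hk, Multiset.sum_replicate, smul_eq_mul, hm] at hsum
    exact Nat.eq_of_mul_eq_mul_right h.prime.pos (by omega)
  rw [hkm] at hk
  have hm1 : 1 ≤ m := by omega
  have hc : Nat.card (centralizer ({σ} : Set (Equiv.Perm Ω))) = s ^ m * m.factorial := by
    rw [Equiv.Perm.nat_card_centralizer, hsum, hk, Multiset.prod_replicate,
      Multiset.toFinset_replicate, if_neg (by omega), Finset.prod_singleton, Multiset.count_replicate_self]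
    have h3 : Fintype.card Ω - (Fintype.card Ω - 1) = 1 := by omega
    rw [h3, Nat.factorial_one, one_mul]
  rw [← hc]
  let f : centralizer ({x} : Set G) →* centralizer ({σ} : Set (Equiv.Perm Ω)) :=
    ((toPermHom G Ω).comp (centralizer ({x} : Set G)).subtype).codRestrict _ (by
      rintro ⟨g, hg⟩
      rw [mem_centralizer_singleton_iff] at hg ⊢
      show toPermHom G Ω g * toPermHom G Ω x = toPermHom G Ω x * toPermHom G Ω g
      rw [← map_mul, ← map_mul, hg])
  have hf : Function.Injective f := by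
    intro g g' hgg'
    apply Subtype.ext
    exact toPerm_injective (congrArg Subtype.val hgg')
  exact card_dvd_of_injective f hf

variable {T : Subgroup G}

/-- `s` is odd -/
theorem odd (A : AS G Ω T) (h : NC a s x) : s ≠ 2 := by
  rintro rfl
  have := A.finG
  have := A.finΩ
  have := A.faithful
  have h2 := A.two
  have hF : Fact (Nat.Prime 2) := ⟨Nat.prime_two⟩
  obtain ⟨P, hP⟩ : ∃ P : Sylow 2 G, zpowers x ≤ P := by
    have : IsPGroup 2 (zpowers x) := by
      apply IsPGroup.of_card (n := 1)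
      rw [Nat.card_zpowers, h.ord, pow_one]
    exact this.exists_le_sylow
  have hxP : x ∈ P := hP (mem_zpowers x)
  have hodd : ¬ 2 ∣ Nat.card Ω := by
    intro h3
    have h4 := h.modEq h2
    have : 0 < Nat.card Ω := by
      have : Nonempty Ω := ⟨a⟩
      exact Nat.card_pos
    omega
  obtain ⟨b, hb⟩ := P.2.nonempty_fixed_point_of_prime_not_dvd_card Ω hodd
  have hba : b = a := h.free h2 (mem_zpowers x) h.ne_one (hb ⟨x, hxP⟩)
  subst hba
  obtain ⟨N, hN, hNodd, hcomm⟩ := Cfsg.Agent.S0215.result P x h.ord hxP (by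
    intro g hg
    have h3 : (g * x * g⁻¹) • b = b := hb ⟨_, hg⟩
    have h4 : g • b = b := by
      have h5 : x • (g⁻¹ • b) = g⁻¹ • b := by
        rw [mul_smul, mul_smul] at h3
        rw [eq_inv_smul_iff]
        exact h3
      have h6 := h.free h2 (mem_zpowers x) h.ne_one h5
      rw [inv_smul_eq_iff] at h6
      exact h6.symm
    have h5 := h.norm g h4
    obtain ⟨i, hi⟩ := mem_zpowers_iff.1 h5
    rcases Int.even_or_odd' i with ⟨j, rfl | rfl⟩
    · exfalso
      rw [zpow_mul, show x ^ (2 : ℤ) = 1 by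
        rw [zpow_ofNat, ← h.ord, pow_orderOf_eq_one], one_zpow] at hi
      have h6 := hi.symm
      rw [mul_inv_eq_one] at h6
      exact h.ne_one (mul_eq_left.1 h6)
    · rw [zpow_add, zpow_mul, show x ^ (2 : ℤ) = 1 by
        rw [zpow_ofNat, ← h.ord, pow_orderOf_eq_one], one_zpow, one_mul, zpow_one] at hi
      exact hi.symm)
  by_cases hN1 : N = ⊥
  · -- `x` is central
    apply h.ne_one
    have h3 : ∀ g : G, g * x = x * g := by
      intro g
      have h4 := hcomm g
      rw [hN1, mem_bot] at h4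
      have h5 : x * g = g * x := by
        have h6 : x * g * x⁻¹ * g⁻¹ * (g * x) = 1 * (g * x) := by rw [h4]
        rw [one_mul] at h6
        rw [← h6]
        group
      exact h5.symm
    have := A.isPreprimitive
    apply FaithfulSMul.eq_of_smul_eq_smul (α := Ω)
    intro c
    obtain ⟨g, rfl⟩ := _root_.MulAction.exists_smul_eq G b c
    rw [one_smul, smul_smul, ← h3, mul_smul, h.fix]
  · have hT := A.le_of_normal N hN hN1
    have h3 : Odd (Nat.card T) := by
      have h4 := card_dvd_of_le hT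
      exact Odd.of_dvd_nat hNodd h4
    have h4 : Group.IsSolvable T := Cfsg.Agent.S0205.result h3
    have hs := A.simple
    exact A.nonab ⟨⟨IsSimpleGroup.comm_iff_isSolvable.2 h4⟩⟩

end NC

end Cfsg.Agent.H499.TT
end

-- part: H499/TTNormSmall
section
/-!
# Small rows: no normal subgroup of prime order in a point stabiliser (helper499)
-/

set_option autoImplicit false

namespace Cfsg.Agent.H499.TT

open MulAction Subgroup Cfsg Cfsg.Agent.H384.TwoTrans

universe u v w

variable {G : Type u} {Ω : Type v} [Group G] [MulAction G Ω] {T : Subgroup G}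

namespace NC

variable {a : Ω} {s : ℕ} {x : G}

/-- the order of `T_a` -/
theorem stab_card (A : AS G Ω T) (a : Ω) :
    Nat.card T = Nat.card Ω * Nat.card ↥(T ⊓ stabilizer G a) := by
  have h1 := A.index_stabilizer a
  rw [← (stabilizer T a).index_mul_card, h1]
  congr 1
  have h2 : (stabilizer T a).map T.subtype = T ⊓ stabilizer G a := by
    ext g
    constructor
    · rintro ⟨t, ht, rfl⟩
      exact ⟨t.2, ht⟩
    · rintro ⟨hg, hg'⟩
      exact ⟨⟨g, hg⟩, hg', rfl⟩
  rw [← h2]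
  exact Nat.card_congr ((stabilizer T a).equivMapOfInjective _ T.subtype_injective).toEquiv

/-- `|T_a|` divides `(s - 1) gcd(|T|, s ^ m m!)` -/
theorem small (A : AS G Ω T) (h : NC a s x) {m : ℕ} (hm : Nat.card Ω = 1 + m * s) :
    Nat.card ↥(T ⊓ stabilizer G a) ∣ (s - 1) * Nat.gcd (Nat.card T) (s ^ m * m.factorial) := by
  have := A.finG
  have := A.finΩ
  have := A.faithful
  refine (h.card_dvd (T ⊓ stabilizer G a) (fun k hk => hk.2)).trans (Nat.mul_dvd_mul_left _ (Nat.dvd_gcd ?_ ?_))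
  · exact card_dvd_of_le (inf_le_left.trans inf_le_left)
  · exact (card_dvd_of_le inf_le_right).trans (h.cent_dvd A.two hm)

theorem kill (A : AS G Ω T) (h : NC a s x) {t n c : ℕ} (m : ℕ) (hT : Nat.card T = t) (hn : Nat.card Ω = n)
    (hm : n = 1 + m * s) (hc : t = n * c) (h1 : (s - 1) * Nat.gcd t (s ^ m * m.factorial) < c) : False := by
  have h2 := h.small A (m := m) (by rw [hn, hm])
  have h3 := stab_card A a
  rw [hT, hn, hc] at h3
  have hn0 : 0 < n := by omega
  have h4 := Nat.eq_of_mul_eq_mul_left hn0 h3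
  rw [← h4, hT] at h2
  have h5 : 0 < (s - 1) * Nat.gcd t (s ^ m * m.factorial) := by
    have hs := h.prime.two_le
    apply Nat.mul_pos (by omega)
    apply Nat.gcd_pos_of_pos_right
    exact Nat.mul_pos (pow_pos (by omega) _) (Nat.factorial_pos _)
  have := Nat.le_of_dvd h5 h2
  omega

/-- if `G` is 3-transitive then `s = n - 1` -/
theorem of_three (A : AS G Ω T) (h : NC a s x) (h3 : IsMultiplyPretransitive G Ω 3) : Nat.card Ω = 1 + s := by
  have := A.finG
  have := A.finΩ
  have := A.faithful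
  have hnt := A.nontrivialΩ
  obtain ⟨b, hb⟩ := exists_ne a
  have hxb : x • b ≠ b := fun hc => hb (h.free A.two (mem_zpowers x) h.ne_one hc)
  have hxa : x • b ≠ a := by
    intro hc
    apply hb
    have h1 : x • b = x • a := by rw [hc, h.fix]
    exact smul_left_cancel x h1
  -- `⟨x⟩` is transitive on the points `≠ a`
  have key : ∀ c : Ω, c ≠ a → ∃ y ∈ zpowers x, y • b = c := by
    intro c hc
    by_cases hcb : c = b
    · exact ⟨1, one_mem _, by rw [one_smul, hcb]⟩
    have e1 : Function.Injective ![a, b, x • b] := by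
      intro i j hij
      fin_cases i <;> fin_cases j <;> simp_all [Ne.symm hb, Ne.symm hxa, Ne.symm hxb]
    have e2 : Function.Injective ![a, b, c] := by
      intro i j hij
      fin_cases i <;> fin_cases j <;> simp_all [Ne.symm hb, Ne.symm hc, Ne.symm hcb]
    obtain ⟨g, hg⟩ := isMultiplyPretransitive_iff.1 h3 ⟨_, e1⟩ ⟨_, e2⟩
    have g0 : g • a = a := DFunLike.congr_fun hg 0
    have g1 : g • b = b := DFunLike.congr_fun hg 1
    have g2 : g • x • b = c := DFunLike.congr_fun hg 2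
    refine ⟨g * x * g⁻¹, h.norm g g0, ?_⟩
    rw [mul_smul, mul_smul, inv_smul_eq_iff.2 g1.symm, g2]
  have hcard : Nat.card (zpowers x) = Nat.card {c : Ω // c ≠ a} := by
    apply Nat.card_congr
    refine Equiv.ofBijective (fun y => ⟨(y : G) • b, ?_⟩) ⟨?_, ?_⟩
    · intro hc
      apply hb
      have h1 : (y : G) • b = (y : G) • a := by rw [hc, fix_mem h.fix y.2]
      exact smul_left_cancel _ h1
    · intro y z hyz
      have h1 : (y : G) • b = (z : G) • b := congrArg Subtype.val hyz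
      apply Subtype.ext
      by_contra hcon
      apply hb
      refine h.free A.two (c := (z : G)⁻¹ * y) (mul_mem (inv_mem z.2) y.2) ?_ ?_
      · intro h2
        exact hcon (inv_mul_eq_one.1 h2).symm
      · rw [mul_smul, inv_smul_eq_iff, h1]
    · rintro ⟨c, hc⟩
      obtain ⟨y, hy, hyc⟩ := key c hc
      exact ⟨⟨y, hy⟩, Subtype.ext hyc⟩
  rw [Nat.card_zpowers, h.ord] at hcard
  have h1 := Set.ncard_add_ncard_compl ({a} : Set Ω)
  rw [Set.ncard_singleton, ← Nat.card_coe_set_eq] at h1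
  rw [← h1, hcard]
  rfl

/-- the alternating row -/
theorem alt (A : AS G Ω T) (h : NC a s x) (hT : 2 * Nat.card T = (Nat.card Ω).factorial) : False := by
  classical
  have := A.finG
  have := A.finΩ
  have := A.faithful
  have := Fintype.ofFinite Ω
  have h5 := A.five_le
  have halt := alt_le_range A hT
  have h3 : IsMultiplyPretransitive G Ω 3 := by
    rw [← pretransitive_range 3]
    have h1 := alternatingGroup.isMultiplyPretransitive Ω
    have h2 : IsMultiplyPretransitive (alternatingGroup Ω) Ω 3 :=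
      isMultiplyPretransitive_of_le (n := Nat.card Ω - 2) (by omega) (by omega)
    rw [isMultiplyPretransitive_iff] at h2 ⊢
    intro y z
    obtain ⟨g, hg⟩ := h2 y z
    exact ⟨⟨g, halt g.2⟩, hg⟩
  have hs := h.of_three A h3
  have h6 := h.small A (m := 1) (by rw [one_mul, hs])
  have h7 := stab_card A a
  have hs5 : 5 ≤ s := by
    have h8 : s ≠ 4 := by
      rintro rfl
      exact absurd h.prime (by norm_num)
    omega
  have h8 : Nat.card ↥(T ⊓ stabilizer G a) ≤ (s - 1) * s := by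
    apply (Nat.le_of_dvd ?_ h6).trans
    · apply Nat.mul_le_mul_left
      rw [pow_one, Nat.factorial_one, mul_one]
      exact Nat.gcd_le_right _ (by omega)
    · apply Nat.mul_pos (by omega)
      apply Nat.gcd_pos_of_pos_right
      rw [pow_one, Nat.factorial_one, mul_one]
      omega
  obtain ⟨k, rfl⟩ : ∃ k, s = k + 2 := ⟨s - 2, by omega⟩
  rw [hs] at hT h7
  have e1 : (1 + (k + 2)).factorial = (k + 3) * ((k + 2) * ((k + 1) * k.factorial)) := by
    rw [show 1 + (k + 2) = k + 2 + 1 by ring, Nat.factorial_succ, Nat.factorial_succ, Nat.factorial_succ]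
  rw [e1, h7, show 1 + (k + 2) = k + 3 by ring] at hT
  have e2 : 2 * Nat.card ↥(T ⊓ stabilizer G a) = (k + 2) * ((k + 1) * k.factorial) := by
    have : (k + 3) * (2 * Nat.card ↥(T ⊓ stabilizer G a)) = (k + 3) * ((k + 2) * ((k + 1) * k.factorial)) := by
      rw [← hT]; ring
    exact Nat.eq_of_mul_eq_mul_left (by omega) this
  have e3 : 6 ≤ k.factorial := by
    have : (3).factorial ≤ k.factorial := Nat.factorial_le (by omega)
    exact this
  rw [show k + 2 - 1 = k + 1 by omega] at h8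
  have e4 : (k + 2) * ((k + 1) * 6) ≤ (k + 2) * ((k + 1) * k.factorial) :=
    Nat.mul_le_mul_left _ (Nat.mul_le_mul_left _ e3)
  have e5 : (k + 2) * ((k + 1) * 6) = 6 * ((k + 1) * (k + 2)) := by ring
  have e6 : 0 < (k + 1) * (k + 2) := by (clear * -; positivity)
  omega

theorem s_eq (h : NC a s x) {p q r : ℕ} (hp : p.Prime) (hq : q.Prime) (hr : r.Prime)
    (hd : s ∣ p * (q * r)) : s = p ∨ s = q ∨ s = r := by
  rcases h.prime.dvd_mul.1 hd with h1 | h1
  · exact Or.inl ((Nat.prime_dvd_prime_iff_eq h.prime hp).1 h1)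
  · rcases h.prime.dvd_mul.1 h1 with h1 | h1
    · exact Or.inr (Or.inl ((Nat.prime_dvd_prime_iff_eq h.prime hq).1 h1))
    · exact Or.inr (Or.inr ((Nat.prime_dvd_prime_iff_eq h.prime hr).1 h1))

theorem dvd_pred (A : AS G Ω T) (h : NC a s x) {n : ℕ} (hn : Nat.card Ω = n) : s ∣ n - 1 := by
  have := A.finG
  have := A.finΩ
  have := A.faithful
  rw [← hn]
  exact h.modEq A.two

/-- `n = 11` -/
theorem row11 (A : AS G Ω T) (h : NC a s x) (hn : Nat.card Ω = 11) {t : ℕ} (hT : Nat.card T = t)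
    (ht : t = 660 ∨ t = 7920) : False := by
  have h1 := h.dvd_pred A hn
  have h2 := h.odd A
  have h3 : s = 5 := by
    have h4 : s ∣ 2 * 5 := h1
    rcases h.prime.dvd_mul.1 h4 with h4 | h4
    · exact absurd ((Nat.prime_dvd_prime_iff_eq h.prime (by norm_num)).1 h4) h2
    · exact (Nat.prime_dvd_prime_iff_eq h.prime (by norm_num)).1 h4
  subst h3
  rcases ht with rfl | rfl
  · exact h.kill A 2 hT hn (c := 60) (by norm_num) (by norm_num) (by decide)
  · exact h.kill A 2 hT hn (c := 720) (by norm_num) (by norm_num) (by decide)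

theorem row12 (A : AS G Ω T) (h : NC a s x) (hn : Nat.card Ω = 12) {t : ℕ} (hT : Nat.card T = t)
    (ht : t = 7920 ∨ t = 95040) : False := by
  have h1 := h.dvd_pred A hn
  have h3 : s = 11 := (Nat.prime_dvd_prime_iff_eq h.prime (by norm_num)).1 h1
  subst h3
  rcases ht with rfl | rfl
  · exact h.kill A 1 hT hn (c := 660) (by norm_num) (by norm_num) (by decide)
  · exact h.kill A 1 hT hn (c := 7920) (by norm_num) (by norm_num) (by decide)

theorem row15 (A : AS G Ω T) (h : NC a s x) (hn : Nat.card Ω = 15) (hT : Nat.card T = 2520) : False := by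
  have h1 := h.dvd_pred A hn
  have h2 := h.odd A
  have h3 : s = 7 := by
    have h4 : s ∣ 2 * 7 := h1
    rcases h.prime.dvd_mul.1 h4 with h4 | h4
    · exact absurd ((Nat.prime_dvd_prime_iff_eq h.prime (by norm_num)).1 h4) h2
    · exact (Nat.prime_dvd_prime_iff_eq h.prime (by norm_num)).1 h4
  subst h3
  exact h.kill A 2 hT hn (c := 168) (by norm_num) (by norm_num) (by decide)

theorem row22 (A : AS G Ω T) (h : NC a s x) (hn : Nat.card Ω = 22) (hT : Nat.card T = 443520) : False := by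
  have h1 := h.dvd_pred A hn
  have h4 : s ∣ 3 * 7 := h1
  rcases h.prime.dvd_mul.1 h4 with h4 | h4
  · have h3 := (Nat.prime_dvd_prime_iff_eq h.prime (by norm_num)).1 h4
    subst h3
    refine h.kill A 7 hT hn (c := 20160) (by norm_num) (by norm_num) ?_
    norm_num [Nat.factorial]
  · have h3 := (Nat.prime_dvd_prime_iff_eq h.prime (by norm_num)).1 h4
    subst h3
    refine h.kill A 3 hT hn (c := 20160) (by norm_num) (by norm_num) ?_
    norm_num [Nat.factorial]

theorem row23 (A : AS G Ω T) (h : NC a s x) (hn : Nat.card Ω = 23) (hT : Nat.card T = 10200960) : False := by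
  have h1 := h.dvd_pred A hn
  have h2 := h.odd A
  have h3 : s = 11 := by
    have h4 : s ∣ 2 * 11 := h1
    rcases h.prime.dvd_mul.1 h4 with h4 | h4
    · exact absurd ((Nat.prime_dvd_prime_iff_eq h.prime (by norm_num)).1 h4) h2
    · exact (Nat.prime_dvd_prime_iff_eq h.prime (by norm_num)).1 h4
  subst h3
  refine h.kill A 2 hT hn (c := 443520) (by norm_num) (by norm_num) ?_
  norm_num [Nat.factorial]

theorem row24 (A : AS G Ω T) (h : NC a s x) (hn : Nat.card Ω = 24) (hT : Nat.card T = 244823040) : False := by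
  have h1 := h.dvd_pred A hn
  have h3 : s = 23 := (Nat.prime_dvd_prime_iff_eq h.prime (by norm_num)).1 h1
  subst h3
  refine h.kill A 1 hT hn (c := 10200960) (by norm_num) (by norm_num) ?_
  norm_num [Nat.factorial]

/-- the rows `HS` and `Co3`: `T` embeds in `Co3` -/
theorem co3_aux (A : AS G Ω T) (h : NC a s x) (f : T →* Spor.Co3) (hf : Function.Injective f) (hxT : x ∈ T)
    {c : ℕ} (hc : Nat.card ↥(T ⊓ stabilizer G a) = c) (h1 : s = 5 ∧ 7 ∣ c ∨
      (s = 7 ∨ s = 11) ∧ 5 * 5 ∣ c) : False := by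
  have hfin := A.finG
  have hdvd := h.card_dvd (T ⊓ stabilizer G a) (fun k hk => hk.2)
  rw [hc] at hdvd
  -- prime divisors of the order of the centraliser
  have key : ∀ r : ℕ, r.Prime → r ∣ Nat.card ↥(T ⊓ stabilizer G a ⊓ centralizer ({x} : Set G)) →
      ∃ y : T, orderOf y = r ∧ y * ⟨x, hxT⟩ = ⟨x, hxT⟩ * y := by
    intro r hr hrd
    have : Fact r.Prime := ⟨hr⟩
    obtain ⟨y, hy⟩ := exists_prime_orderOf_dvd_card' r hrd
    have h2 : (y : G) ∈ centralizer ({x} : Set G) := y.2.2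
    rw [mem_centralizer_singleton_iff] at h2
    refine ⟨⟨y, y.2.1.1⟩, ?_, Subtype.ext h2⟩
    rw [Subgroup.orderOf_mk, Subgroup.orderOf_coe, hy]
  have hox : orderOf (f ⟨x, hxT⟩) = s := by
    rw [orderOf_injective f hf, Subgroup.orderOf_mk, h.ord]
  rcases h1 with ⟨rfl, h7⟩ | ⟨hs, h25⟩
  · have h8 : 7 ∣ Nat.card ↥(T ⊓ stabilizer G a ⊓ centralizer ({x} : Set G)) := by
      have h9 := h7.trans hdvd
      have h10 : Nat.Coprime 7 (5 - 1) := by decide
      exact h10.dvd_of_dvd_mul_left h9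
    obtain ⟨y, hy, hxy⟩ := key 7 (by norm_num) h8
    have h9 := Cfsg.Agent.BpSpor.CoThreeFive.card_dvd hox
    have h11 : f y ∈ centralizer ({f ⟨x, hxT⟩} : Set Spor.Co3) := by
      rw [mem_centralizer_singleton_iff, ← map_mul, ← map_mul, hxy]
    have h12 : orderOf (f y) ∣ Nat.card (centralizer ({f ⟨x, hxT⟩} : Set Spor.Co3)) := by
      have h13 := _root_.orderOf_dvd_natCard (⟨f y, h11⟩ : centralizer ({f ⟨x, hxT⟩} : Set Spor.Co3))
      rwa [Subgroup.orderOf_mk] at h13
    rw [orderOf_injective f hf, hy] at h12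
    have := h12.trans h9
    norm_num at this
  · have h8 : 5 ∣ Nat.card ↥(T ⊓ stabilizer G a ⊓ centralizer ({x} : Set G)) := by
      rcases hs with rfl | rfl
      · have h9 : 5 ∣ (7 - 1) * Nat.card ↥(T ⊓ stabilizer G a ⊓ centralizer ({x} : Set G)) :=
          (Dvd.intro _ rfl).trans (h25.trans hdvd)
        have h10 : Nat.Coprime 5 (7 - 1) := by decide
        exact h10.dvd_of_dvd_mul_left h9
      · have h9 : 5 * 5 ∣ 5 * (2 * Nat.card ↥(T ⊓ stabilizer G a ⊓ centralizer ({x} : Set G))) := by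
          have h10 := h25.trans hdvd
          rw [← mul_assoc 5 2]
          exact h10
        have h10 := Nat.dvd_of_mul_dvd_mul_left (by norm_num) h9
        have h11 : Nat.Coprime 5 2 := by decide
        exact h11.dvd_of_dvd_mul_left h10
    obtain ⟨y, hy, hxy⟩ := key 5 (by norm_num) h8
    have hoy : orderOf (f y) = 5 := by rw [orderOf_injective f hf, hy]
    have h9 := Cfsg.Agent.BpSpor.CoThreeFive.card_dvd hoy
    have h11 : f ⟨x, hxT⟩ ∈ centralizer ({f y} : Set Spor.Co3) := by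
      rw [mem_centralizer_singleton_iff, ← map_mul, ← map_mul, hxy]
    have h12 : orderOf (f ⟨x, hxT⟩) ∣ Nat.card (centralizer ({f y} : Set Spor.Co3)) := by
      have h13 := _root_.orderOf_dvd_natCard (⟨f ⟨x, hxT⟩, h11⟩ : centralizer ({f y} : Set Spor.Co3))
      rwa [Subgroup.orderOf_mk] at h13
    rw [hox] at h12
    have := h12.trans h9
    rcases hs with rfl | rfl <;> norm_num at this

theorem hs (A : AS G Ω T) (h : NC a s x) (hn : Nat.card Ω = 176) (hT : Spor.IsoHS T) : False := by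
  have h1 := h.dvd_pred A hn
  have hc := Cfsg.Agent.KFacts.HS.card hT
  obtain ⟨e⟩ := hT
  have h2 := index_dvd_out A e
  rw [Cfsg.Agent.S2072.result] at h2
  have hs2 := h.odd A
  have hxT : x ∈ T := by
    apply mem_of_coprime A e
    rw [Cfsg.Agent.S2072.result, h.ord]
    exact (Nat.coprime_primes h.prime Nat.prime_two).2 hs2
  have h3 := stab_card A a
  rw [hc, hn] at h3
  have h4 : Nat.card ↥(T ⊓ stabilizer G a) = 252000 := by omega
  have hle : Spor.HS ≤ Spor.Co3 := inf_le_left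
  refine h.co3_aux A ((inclusion hle).comp e.toMonoidHom)
    ((inclusion_injective hle).comp e.injective) hxT h4 ?_
  rcases h.s_eq (p := 5) (q := 5) (r := 7) (by norm_num) (by norm_num) (by norm_num) h1 with rfl | rfl | rfl
  · left; norm_num
  · left; norm_num
  · right; norm_num

theorem co3 (A : AS G Ω T) (h : NC a s x) (hn : Nat.card Ω = 276) (hT : Spor.IsoCo3 T) : False := by
  have h1 := h.dvd_pred A hn
  obtain ⟨e⟩ := hT
  have hc : Nat.card T = 495766656000 := by
    rw [Nat.card_congr e.toEquiv]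
    exact Cfsg.Agent.H49.CoStab.card_co3
  have hs2 := h.odd A
  have hxT : x ∈ T := by
    rw [eq_top A e Cfsg.Agent.S2071.result]
    trivial
  have h3 := stab_card A a
  rw [hc, hn] at h3
  have h4 : Nat.card ↥(T ⊓ stabilizer G a) = 1796256000 := by omega
  refine h.co3_aux A e.toMonoidHom e.injective hxT h4 ?_
  rcases h.s_eq (p := 5) (q := 5) (r := 11) (by norm_num) (by norm_num) (by norm_num) h1 with rfl | rfl | rfl
  · left; norm_num
  · left; norm_num
  · right; norm_num

end NC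

end Cfsg.Agent.H499.TT
end

-- part: H499/TTReg
section
/-!
# Regular normal subgroups of the point stabilisers: groups of rank one (helper499)

* `Reg T a p U` : `U ≤ T_a` is a `p`-group normalised by `T_a` and regular on the points `≠ a`;
* `Reg.key` : if `NC a p x` then there is `c ∈ U` of order `p` with `⟨c⟩` normalised by the two point stabiliser;
* `Reg.card` : `|T| = n (n - 1) |T_{ab}|`;
* `Reg.smul` : transport to other points.
-/

set_option autoImplicit false

namespace Cfsg.Agent.H499.TT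

open MulAction Subgroup Cfsg Cfsg.Agent.H384.TwoTrans

universe u v w

variable {G : Type u} {Ω : Type v} [Group G] [MulAction G Ω] {T : Subgroup G}

/-- `U ≤ T_a` is a `p`-group normalised by `T_a` and regular on the points `≠ a` -/
structure Reg (T : Subgroup G) (a : Ω) (p : ℕ) (U : Subgroup G) : Prop where
  le : U ≤ T
  pg : IsPGroup p U
  fix : ∀ u ∈ U, u • a = a
  norm : ∀ t ∈ T, t • a = a → ∀ u ∈ U, t * u * t⁻¹ ∈ U
  free : ∀ u ∈ U, ∀ b : Ω, b ≠ a → u • b = b → u = 1
  trans : ∀ b c : Ω, b ≠ a → c ≠ a → ∃ u ∈ U, u • b = c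

namespace Reg

variable {a b : Ω} {p : ℕ} {U : Subgroup G} {x : G}

theorem smul_ne {a b : Ω} {g : G} (h : g • a = a) (hb : b ≠ a) : g • b ≠ a := by
  intro hc
  apply hb
  rw [← h] at hc
  exact smul_left_cancel g hc

theorem smul (R : Reg T a p U) [T.Normal] (g : G) : Reg T (g • a) p (U.map (MulAut.conj g).toMonoidHom) where
  le := by
    rintro _ ⟨u, hu, rfl⟩
    exact Normal.conj_mem inferInstance u (R.le hu) g
  pg := R.pg.map _
  fix := by
    rintro _ ⟨u, hu, rfl⟩
    show (g * u * g⁻¹) • g • a = g • a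
    rw [mul_smul, mul_smul, inv_smul_smul, R.fix u hu]
  norm := by
    rintro t ht hta _ ⟨u, hu, rfl⟩
    refine ⟨(g⁻¹ * t * g) * u * (g⁻¹ * t * g)⁻¹, R.norm _ ?_ ?_ u hu, ?_⟩
    · have := (inferInstance : T.Normal).conj_mem t ht g⁻¹
      rwa [inv_inv] at this
    · rw [mul_smul, mul_smul, hta, inv_smul_smul]
    · show g * ((g⁻¹ * t * g) * u * (g⁻¹ * t * g)⁻¹) * g⁻¹ = t * (g * u * g⁻¹) * t⁻¹
      group
  free := by
    rintro _ ⟨u, hu, rfl⟩ b hb hub
    have h1 : (g * u * g⁻¹) • b = b := hub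
    have h2 : u = 1 := by
      apply R.free u hu (g⁻¹ • b)
      · intro hc
        apply hb
        rw [← hc, smul_inv_smul]
      · rw [mul_smul, mul_smul] at h1
        rw [eq_inv_smul_iff]
        exact h1
    show g * u * g⁻¹ = 1
    rw [h2]
    group
  trans := by
    intro b c hb hc
    obtain ⟨u, hu, hub⟩ := R.trans (g⁻¹ • b) (g⁻¹ • c) (by
      intro h
      apply hb
      rw [← h, smul_inv_smul]) (by
      intro h
      apply hc
      rw [← h, smul_inv_smul])
    refine ⟨g * u * g⁻¹, ⟨u, hu, rfl⟩, ?_⟩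
    rw [mul_smul, mul_smul, hub, smul_inv_smul]

theorem exists_of (A : AS G Ω T) (R : Reg T a p U) (b : Ω) : ∃ V : Subgroup G, Reg T b p V := by
  have := A.isPreprimitive
  have := A.normal
  obtain ⟨g, rfl⟩ := _root_.MulAction.exists_smul_eq G a b
  exact ⟨_, R.smul g⟩

/-- `|U| = n - 1` -/
theorem card_U [Finite Ω] (R : Reg T a p U) (hb : b ≠ a) : Nat.card Ω = Nat.card U + 1 := by
  have h1 := Set.ncard_add_ncard_compl ({a} : Set Ω)
  rw [Set.ncard_singleton, ← Nat.card_coe_set_eq] at h1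
  have h2 : Nat.card U = Nat.card ({a}ᶜ : Set Ω) := by
    apply Nat.card_congr
    refine Equiv.ofBijective (fun u => ⟨(u : G) • b, fun hc => smul_ne (R.fix u u.2) hb hc⟩) ⟨?_, ?_⟩
    · intro u v huv
      have h3 : (u : G) • b = (v : G) • b := congrArg Subtype.val huv
      have h4 : (v : G)⁻¹ * u = 1 := by
        apply R.free _ (mul_mem (inv_mem v.2) u.2) b hb
        rw [mul_smul, inv_smul_eq_iff, h3]
      exact Subtype.ext (inv_mul_eq_one.1 h4).symm
    · rintro ⟨c, hc⟩
      obtain ⟨u, hu, huc⟩ := R.trans b c hb hc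
      exact ⟨⟨u, hu⟩, Subtype.ext huc⟩
  omega

/-- `|T| = n (n - 1) |T_{ab}|` -/
theorem card (A : AS G Ω T) (R : Reg T a p U) (hb : b ≠ a) :
    Nat.card T = Nat.card Ω * ((Nat.card Ω - 1) * Nat.card ↥(T ⊓ stabilizer G a ⊓ stabilizer G b)) := by
  have := A.finG
  have := A.finΩ
  rw [NC.stab_card A a]
  congr 1
  have h1 := R.card_U hb
  rw [h1, Nat.add_sub_cancel]
  set K := T ⊓ stabilizer G a with hK
  set H := K ⊓ stabilizer G b with hH
  rw [← Nat.card_prod]
  symm
  apply Nat.card_congr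
  refine Equiv.ofBijective (fun z : U × H => (⟨(z.1 : G) * z.2, mul_mem ⟨R.le z.1.2, R.fix _ z.1.2⟩ z.2.2.1⟩ : K))
    ⟨?_, ?_⟩
  · rintro ⟨u, h⟩ ⟨u', h'⟩ huh
    have h2 : (u : G) * h = u' * h' := congrArg Subtype.val huh
    have h3 : (u : G) • b = (u' : G) • b := by
      have e1 : ((u : G) * h) • b = (u : G) • b := by
        rw [mul_smul]
        congr 1
        exact h.2.2
      have e2 : ((u' : G) * h') • b = (u' : G) • b := by
        rw [mul_smul]
        congr 1
        exact h'.2.2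
      rw [← e1, ← e2, h2]
    have h4 : (u' : G)⁻¹ * u = 1 := by
      apply R.free _ (mul_mem (inv_mem u'.2) u.2) b hb
      rw [mul_smul, inv_smul_eq_iff, h3]
    have h5 : (u : G) = u' := (inv_mul_eq_one.1 h4).symm
    rw [h5] at h2
    exact Prod.ext (Subtype.ext h5) (Subtype.ext (mul_left_cancel h2))
  · rintro ⟨k, hk⟩
    have hka : k • a = a := hk.2
    obtain ⟨u, hu, huk⟩ := R.trans b (k • b) hb (smul_ne hka hb)
    have huK : u ∈ K := ⟨R.le hu, R.fix u hu⟩
    have huk' : u⁻¹ * k ∈ K := K.mul_mem (K.inv_mem huK) hk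
    refine ⟨⟨⟨u, hu⟩, ⟨u⁻¹ * k, ⟨huk', ?_⟩⟩⟩, ?_⟩
    · show (u⁻¹ * k) • b = b
      rw [mul_smul, inv_smul_eq_iff, huk]
    · apply Subtype.ext
      show u * (u⁻¹ * k) = k
      group

/-- `x` commutes with `U` -/
theorem comm [Finite G] (R : Reg T a p U) (h : NC a p x) {u : G} (hu : u ∈ U) : u * x = x * u := by
  have hF : Fact p.Prime := ⟨h.prime⟩
  have h1 := h.card_dvd (zpowers u) (by
    intro k hk
    exact NC.fix_mem (R.fix u hu) hk)
  obtain ⟨k, hk⟩ := IsPGroup.iff_card.1 (R.pg.to_le (by rw [zpowers_le]; exact hu) : IsPGroup p (zpowers u))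
  rw [hk] at h1
  have h2 : Nat.Coprime (p ^ k) (p - 1) := by
    apply Nat.Coprime.pow_left
    have := h.prime.two_le
    rw [Nat.coprime_self_sub_right (by omega)]
    exact Nat.coprime_one_right _
  have h3 := h2.dvd_of_dvd_mul_left h1
  rw [← hk] at h3
  have h4 : zpowers u ⊓ centralizer ({x} : Set G) = zpowers u := by
    apply eq_of_le_of_card_ge inf_le_left
    exact Nat.le_of_dvd Nat.card_pos h3
  have h5 : u ∈ zpowers u ⊓ centralizer ({x} : Set G) := by
    rw [h4]
    exact mem_zpowers u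
  exact mem_centralizer_singleton_iff.1 h5.2

/-- the element of `U` acting on `b` as `x` -/
theorem key (A : AS G Ω T) (R : Reg T a p U) (h : NC a p x) (hb : b ≠ a) :
    ∃ c ∈ U, orderOf c = p ∧ ∀ t ∈ T ⊓ stabilizer G a ⊓ stabilizer G b, t * c * t⁻¹ ∈ zpowers c := by
  have := A.finG
  have := A.faithful
  have hxb : x • b ≠ a := smul_ne h.fix hb
  obtain ⟨c, hc, hcb⟩ := R.trans b (x • b) hb hxb
  have hxc : c * x = x * c := R.comm h hc
  have hpow : ∀ k : ℤ, c ^ k • b = x ^ k • b := by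
    have hcomm : Commute c x := hxc
    have h1 : ∀ k : ℤ, (c⁻¹ * x) ^ k • b = b := by
      intro k
      have h2 : (c⁻¹ * x) • b = b := by rw [mul_smul, inv_smul_eq_iff, hcb]
      exact NC.fix_mem (c := c⁻¹ * x) h2 (zpow_mem (mem_zpowers _) k)
    intro k
    have h2 := h1 k
    rw [hcomm.inv_left.mul_zpow, inv_zpow, mul_smul, inv_smul_eq_iff] at h2
    exact h2.symm
  have hc1 : c ≠ 1 := by
    rintro rfl
    rw [one_smul] at hcb
    exact hb (h.free A.two (mem_zpowers x) h.ne_one hcb.symm)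
  have hcp : c ^ p = 1 := by
    apply R.free _ (U.pow_mem hc p) b hb
    have h1 := hpow (p : ℤ)
    rw [zpow_natCast, zpow_natCast, ← h.ord, pow_orderOf_eq_one, one_smul, h.ord] at h1
    exact h1
  have hF : Fact p.Prime := ⟨h.prime⟩
  refine ⟨c, hc, orderOf_eq_prime hcp hc1, ?_⟩
  rintro t ⟨⟨ht, hta⟩, htb⟩
  have hta' : t • a = a := hta
  have htb' : t • b = b := htb
  obtain ⟨k, hk⟩ := mem_zpowers_iff.1 (h.norm t hta')
  refine mem_zpowers_iff.2 ⟨k, ?_⟩
  have h1 : (c ^ k)⁻¹ * (t * c * t⁻¹) = 1 := by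
    apply R.free _ (mul_mem (inv_mem (zpow_mem hc k)) (R.norm t ht hta' c hc)) b hb
    have htb'' : t⁻¹ • b = b := by rw [inv_smul_eq_iff, htb']
    have h2 : (t * c * t⁻¹) • b = x ^ k • b := by
      rw [hk, mul_smul, mul_smul, mul_smul, mul_smul, htb'', hcb]
    rw [mul_smul, inv_smul_eq_iff, h2, hpow]
  exact (inv_mul_eq_one.1 h1)

end Reg

end Cfsg.Agent.H499.TT
end

-- part: H499/TTRegRows
section
/-!
# Rank one rows: `PSL₂(q)`, `PSU₃(q)`, Ree groups (helper499)

`Reg T a p U`, `NC a p x`, `p ≠ 2`: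
* `psl2_coprime`, `psu_coprime`: `p` does not divide `|G : T|`;
* `ree_false`.
-/

set_option autoImplicit false

namespace Cfsg.Agent.H499.TT

open MulAction Subgroup Cfsg Cfsg.Agent.H384.TwoTrans

universe u v w

variable {G : Type u} {Ω : Type v} [Group G] [MulAction G Ω] {T : Subgroup G}

/-- an element of order `p r` of `T` -/
theorem exists_mul_order [Finite G] {U K : Subgroup G} {c : G} {p r : ℕ} (hU : U ≤ T) (hK : K ≤ T) (hc : c ∈ U)
    (hp : p.Prime) (hr : r.Prime) (hpr : r ≠ p) (hcp : orderOf c = p)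
    (hd : r ∣ Nat.card ↥(K ⊓ centralizer ({c} : Set G))) : ∃ y : T, orderOf y = p * r := by
  have : Fact r.Prime := ⟨hr⟩
  obtain ⟨z, hz⟩ := exists_prime_orderOf_dvd_card' r hd
  have h1 : (z : G) * c = c * z := mem_centralizer_singleton_iff.1 z.2.2
  have h2 : orderOf (z : G) = r := by rw [Subgroup.orderOf_coe, hz]
  have h3 : Commute c (z : G) := h1.symm
  refine ⟨⟨c * z, mul_mem (hU hc) (hK z.2.1)⟩, ?_⟩
  rw [Subgroup.orderOf_mk, h3.orderOf_mul_eq_mul_orderOf_of_coprime, hcp, h2]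
  rw [hcp, h2]
  exact (Nat.coprime_primes hp hr).2 (Ne.symm hpr)

variable {a b : Ω} {U : Subgroup G} {x : G}

/-- the row `PSL₂(q)` -/
theorem psl2_coprime (A : AS G Ω T) {F : Type w} [Field F] [Fintype F] {s f : ℕ} (hs : s.Prime) (hs2 : s ≠ 2)
    (hf : 1 ≤ f) (hF : Fintype.card F = s ^ f) (h4 : 4 ≤ s ^ f)
    (e : ↥T ≃* Matrix.ProjectiveSpecialLinearGroup (Fin 2) F) (hn : Nat.card Ω = s ^ f + 1)
    (R : Reg T a s U) (h : NC a s x) : ¬ s ∣ T.index := by
  have := A.finG
  have hnt := A.nontrivialΩ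
  obtain ⟨b, hb⟩ := exists_ne a
  have h1 := R.card A hb
  rw [Nat.card_congr e.toEquiv, card_psl2 hF, hn, Nat.add_sub_cancel] at h1
  set H := T ⊓ stabilizer G a ⊓ stabilizer G b with hH
  have hodd : Odd (s ^ f) := (hs.odd_of_ne_two hs2).pow
  have hg : Nat.gcd 2 (s ^ f - 1) = 2 := by
    apply Nat.gcd_eq_left
    obtain ⟨k, hk⟩ := hodd
    exact ⟨k, by omega⟩
  rw [hg] at h1
  have hH2 : 2 * Nat.card H = s ^ f - 1 := by
    have h2 : 2 * (s ^ f * ((s ^ f) ^ 2 - 1) / 2) = s ^ f * ((s ^ f) ^ 2 - 1) := by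
      apply Nat.mul_div_cancel'
      apply Dvd.dvd.mul_left
      have h3 : Odd ((s ^ f) ^ 2) := hodd.pow
      obtain ⟨k, hk⟩ := h3
      exact ⟨k, by omega⟩
    rw [h1] at h2
    have h3 : (s ^ f) ^ 2 - 1 = (s ^ f + 1) * (s ^ f - 1) := by
      have := Nat.sq_sub_sq (s ^ f) 1
      rwa [one_pow] at this
    rw [h3] at h2
    have h5 : ((s ^ f + 1) * s ^ f) * (2 * Nat.card H) = ((s ^ f + 1) * s ^ f) * (s ^ f - 1) := by
      calc ((s ^ f + 1) * s ^ f) * (2 * Nat.card H) = 2 * ((s ^ f + 1) * (s ^ f * Nat.card H)) := by ring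
        _ = s ^ f * ((s ^ f + 1) * (s ^ f - 1)) := h2
        _ = ((s ^ f + 1) * s ^ f) * (s ^ f - 1) := by ring
    exact Nat.eq_of_mul_eq_mul_left (by (clear * - h4; positivity)) h5
  obtain ⟨c, hc, hco, hcn⟩ := R.key A h hb
  have h2 := card_dvd_of_norm hs hco H hcn
  -- the centraliser is trivial
  have h3 : Nat.card ↥(H ⊓ centralizer ({c} : Set G)) = 1 := by
    by_contra hcon
    obtain ⟨r, hr, hrd⟩ := Nat.exists_prime_and_dvd hcon
    have hrs : r ≠ s := by
      rintro rfl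
      have h5 : r ∣ 2 * Nat.card H := Dvd.dvd.mul_left (hrd.trans (card_dvd_of_le inf_le_left)) 2
      rw [hH2] at h5
      have h6 := (Nat.dvd_sub_iff_right (by omega) (dvd_pow_self r (by omega))).1 h5
      exact hr.one_lt.ne' (Nat.dvd_one.1 h6)
    obtain ⟨y, hy⟩ := exists_mul_order (T := T) (U := U) (K := H) R.le (inf_le_left.trans inf_le_left) hc hs hr hrs
      hco hrd
    have : Fact s.Prime := ⟨hs⟩
    have hchar : CharP F s := by
      obtain ⟨r, hr⟩ := CharP.exists F
      obtain ⟨⟨f', hf'⟩, hr', hcard⟩ := FiniteField.card F r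
      have h1 : r ∣ s ^ f := by
        rw [← hF, hcard]
        exact dvd_pow_self r (by simpa using hf'.ne')
      have h2 : r = s := (Nat.prime_dvd_prime_iff_eq hr' hs).1 (hr'.dvd_of_dvd_pow h1)
      rwa [h2] at hr
    have h5 : orderOf (e y) ∈ Set.range (orderOf : Matrix.ProjectiveSpecialLinearGroup (Fin 2) F → ℕ) := ⟨e y, rfl⟩
    rw [Cfsg.Agent.S2475.result s (by rw [hF]; exact h4), hF, MulEquiv.orderOf_eq, hy, hg] at h5
    have hsd : s ∣ s ^ f := dvd_pow_self s (by omega)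
    rcases h5 with h5 | h5 | h5
    · have h6 : s * r ∣ s * 1 := by rwa [mul_one]
      have h7 := Nat.dvd_of_mul_dvd_mul_left hs.pos h6
      exact hr.one_lt.ne' (Nat.dvd_one.1 h7)
    · have h6 : s ∣ s ^ f - 1 := by
        refine (Dvd.intro _ rfl).trans (h5.trans (Nat.div_dvd_of_dvd ?_))
        obtain ⟨k, hk⟩ := hodd
        exact ⟨k, by (clear * - hk; omega)⟩
      have h7 := (Nat.dvd_sub_iff_right (by omega) hsd).1 h6
      exact hs.one_lt.ne' (Nat.dvd_one.1 h7)
    · have h6 : s ∣ s ^ f + 1 := by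
        refine (Dvd.intro _ rfl).trans (h5.trans (Nat.div_dvd_of_dvd ?_))
        obtain ⟨k, hk⟩ := hodd
        exact ⟨k + 1, by omega⟩
      have h7 := (Nat.dvd_add_right hsd).1 h6
      exact hs.one_lt.ne' (Nat.dvd_one.1 h7)
  rw [h3, mul_one] at h2
  have hs3 := hs.two_le
  have hle := Nat.le_of_dvd (by omega) h2
  have hf1 : f = 1 := by
    by_contra hcon
    have h5 : s ^ 2 ≤ s ^ f := Nat.pow_le_pow_right (by omega) (by omega)
    have h6 : 3 ≤ s := by omega
    have h7 : 3 * s ≤ s ^ 2 := by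
      rw [pow_two]
      exact Nat.mul_le_mul_right s h6
    omega
  intro h5
  have h6 := h5.trans (index_dvd_out A e)
  rw [card_out_psl2 hs hf hF h4, hg, hf1, mul_one] at h6
  exact hs2 ((Nat.prime_dvd_prime_iff_eq hs Nat.prime_two).1 h6)

/-- the row `PSU₃(q)` -/
theorem psu_coprime (A : AS G Ω T) {F : Type} [Field F] [Fintype F] {q s : ℕ} (hq : 3 ≤ q)
    (hF : Fintype.card F = q ^ 2) (hs2 : s ≠ 2) (e : ↥T ≃* Cfsg.PSU 3 F q) (hn : Nat.card Ω = q ^ 3 + 1)
    (R : Reg T a s U) (h : NC a s x) : ¬ s ∣ T.index := by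
  have := A.finG
  have hnt := A.nontrivialΩ
  obtain ⟨b, hb⟩ := exists_ne a
  obtain ⟨p, f, hp, hf, hqf, hk, ho⟩ := psu_data A hq hF e
  have hs := h.prime
  have hsp : s = p := by
    have h1 := h.dvd_pred A hn
    rw [Nat.add_sub_cancel, hqf, ← pow_mul] at h1
    exact (Nat.prime_dvd_prime_iff_eq hs hp).1 (hs.dvd_of_dvd_pow h1)
  subst hsp
  have hps : s ∣ q := by
    rw [hqf]
    exact dvd_pow_self s (by omega)
  -- `|H|`
  have h1 := R.card A hb
  rw [hn, Nat.add_sub_cancel] at h1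
  set H := T ⊓ stabilizer G a ⊓ stabilizer G b with hH
  obtain ⟨t, rfl⟩ : ∃ t, q = t + 1 := ⟨q - 1, by omega⟩
  have hcard := Cfsg.Agent.HKS.EndOrd.card_psu_three (F := F) hF
  rw [← Nat.card_congr e.toEquiv, h1] at hcard
  have hHd : Nat.gcd 3 (t + 2) * Nat.card H = t * (t + 2) := by
    have e1 : (t + 1) ^ 3 + 1 = (t + 2) * (t ^ 2 + t + 1) := by ring
    rw [e1] at hcard
    have e2 : ((t + 1) ^ 3 * ((t + 2) * (t ^ 2 + t + 1))) * (Nat.gcd 3 (t + 2) * Nat.card H) =
        ((t + 1) ^ 3 * ((t + 2) * (t ^ 2 + t + 1))) * (t * (t + 2)) := by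
      calc ((t + 1) ^ 3 * ((t + 2) * (t ^ 2 + t + 1))) * (Nat.gcd 3 (t + 2) * Nat.card H)
          = Nat.gcd 3 (t + 2) * ((t + 2) * (t ^ 2 + t + 1) * ((t + 1) ^ 3 * Nat.card H)) := by ring
        _ = (t + 1) ^ 3 * (t * ((t + 2) ^ 2 * (t ^ 2 + t + 1))) := hcard
        _ = _ := by ring
    exact Nat.eq_of_mul_eq_mul_left (by (clear * -; positivity)) e2
  intro hdi
  -- `s ∣ f`
  have hsf : s ∣ f := by
    have h2 := hdi.trans hk
    rcases hs.dvd_mul.1 h2 with h3 | h3
    · exfalso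
      have h4 : s ∣ t + 1 + 1 := h3.trans (Nat.gcd_dvd_right _ _)
      have h5 := (Nat.dvd_add_right hps).1 h4
      exact hs.one_lt.ne' (Nat.dvd_one.1 h5)
    · rcases hs.dvd_mul.1 h3 with h4 | h4
      · exact absurd ((Nat.prime_dvd_prime_iff_eq hs Nat.prime_two).1 h4) hs2
      · exact h4
  -- the number `M = 1 + s + ⋯ + s ^ (s - 1)`
  have hs3 : 3 ≤ s := by
    have := hs.two_le
    omega
  set M := ∑ i ∈ Finset.range s, s ^ i with hM
  have hM1 : M * (s - 1) = s ^ s - 1 := by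
    have := Nat.geomSum_eq (m := s) (by omega) s
    rw [← hM] at this
    rw [this]
    apply Nat.div_mul_cancel
    have := Nat.sub_dvd_pow_sub_pow s 1 s
    rwa [one_pow] at this
  have hMne : M ≠ 1 := by
    intro h2
    rw [h2, one_mul] at hM1
    have h3 : s ^ 2 ≤ s ^ s := Nat.pow_le_pow_right (by omega) (by omega)
    have h4 : s * 3 ≤ s ^ 2 := by
      rw [pow_two]
      exact Nat.mul_le_mul_left s hs3
    omega
  have hModd : Odd M := by
    rw [hM, Finset.odd_sum_iff_odd_card_odd]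
    have h2 : Finset.filter (fun i => Odd (s ^ i)) (Finset.range s) = Finset.range s := by
      apply Finset.filter_true_of_mem
      intro i _
      exact (hs.odd_of_ne_two hs2).pow
    rw [h2, Finset.card_range]
    exact hs.odd_of_ne_two hs2
  obtain ⟨r, hr, hrM⟩ := Nat.exists_prime_and_dvd hMne
  have hr2 : r ≠ 2 := by
    rintro rfl
    exact (Nat.not_even_iff_odd.2 hModd) (even_iff_two_dvd.2 hrM)
  have hMq : M * (s - 1) ∣ t := by
    rw [hM1]
    have h2 : t = s ^ f - 1 := by omega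
    rw [h2]
    obtain ⟨g, rfl⟩ := hsf
    rw [pow_mul]
    have := Nat.sub_dvd_pow_sub_pow (s ^ s) 1 g
    rwa [one_pow] at this
  obtain ⟨k, m, hm, hkm⟩ := Nat.exists_eq_pow_mul_and_not_dvd (show s - 1 ≠ 0 by omega) r hr.ne_one
  have hrt : r ∣ t := (hrM.mul_right _).trans hMq
  have hrt2 : ¬ r ∣ t + 2 := by
    intro h2
    have h3 := (Nat.dvd_add_right hrt).1 h2
    exact hr2 ((Nat.prime_dvd_prime_iff_eq hr Nat.prime_two).1 h3)
  have h5 : r ^ (k + 1) ∣ Nat.card H := by
    have h6 : r ^ (k + 1) ∣ Nat.gcd 3 (t + 2) * Nat.card H := by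
      rw [hHd]
      apply Dvd.dvd.mul_right
      refine Dvd.dvd.trans ?_ hMq
      rw [pow_succ, mul_comm]
      exact Nat.mul_dvd_mul hrM (by rw [hkm]; exact Dvd.intro _ rfl)
    have h7 : Nat.Coprime (r ^ (k + 1)) (Nat.gcd 3 (t + 2)) := by
      apply Nat.Coprime.pow_left
      rw [hr.coprime_iff_not_dvd]
      intro h8
      exact hrt2 (h8.trans (Nat.gcd_dvd_right _ _))
    exact h7.dvd_of_dvd_mul_left h6
  obtain ⟨c, hc, hco, hcn⟩ := R.key A h hb
  have h2 := card_dvd_of_norm hs hco H hcn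
  have hrs : r ≠ s := by
    rintro rfl
    have h3 := (Nat.dvd_add_right hrt).1 hps
    exact hr.one_lt.ne' (Nat.dvd_one.1 h3)
  -- `r` does not divide the order of the centraliser
  have h3 : ¬ r ∣ Nat.card ↥(H ⊓ centralizer ({c} : Set G)) := by
    intro hrd
    obtain ⟨y, hy⟩ := exists_mul_order (T := T) (U := U) (K := H) R.le (inf_le_left.trans inf_le_left) hc hs hr hrs
      hco hrd
    have hchar : CharP F s := by
      obtain ⟨r, hr⟩ := CharP.exists F
      obtain ⟨⟨f', hf'⟩, hr', hcard⟩ := FiniteField.card F r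
      have h1 : r ∣ s ^ f := by
        have h1 : r ∣ (t + 1) ^ 2 := by
          rw [← hF, hcard]
          exact dvd_pow_self r (by simpa using hf'.ne')
        rw [← hqf]
        exact hr'.dvd_of_dvd_pow h1
      have h2 : r = s := (Nat.prime_dvd_prime_iff_eq hr' hs).1 (hr'.dvd_of_dvd_pow h1)
      rwa [h2] at hr
    have : Fact s.Prime := ⟨hs⟩
    have h6 := Cfsg.Agent.H124.SUThreeEig.orderOf_dvd hF s (e y)
    rw [MulEquiv.orderOf_eq, hy] at h6
    have hnd : ∀ z : ℕ, s * r ∣ z → ∀ w, z * w = t + 2 ∨ z * w = t * (t + 2) ∨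
        z * w + (t + 1) = (t + 1) ^ 2 + 1 → False := by
      intro z hz w hw
      have hsz : s ∣ z * w := ((Dvd.intro _ rfl).trans hz).mul_right w
      rcases hw with hw | hw | hw
      · rw [hw] at hsz
        have h7 : s ∣ (t + 1) + 1 := hsz
        exact hs.one_lt.ne' (Nat.dvd_one.1 ((Nat.dvd_add_right hps).1 h7))
      · rw [hw] at hsz
        have h7 : s ∣ t * (t + 2) + 1 := by
          have : t * (t + 2) + 1 = (t + 1) * (t + 1) := by ring
          rw [this]
          exact hps.mul_right _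
        exact hs.one_lt.ne' (Nat.dvd_one.1 ((Nat.dvd_add_right hsz).1 h7))
      · have h7 : s ∣ (t + 1) ^ 2 + 1 := by
          rw [← hw]
          exact dvd_add hsz hps
        exact hs.one_lt.ne' (Nat.dvd_one.1 ((Nat.dvd_add_right (hps.trans (dvd_pow_self _ (by norm_num)))).1 h7))
    have hsq : (t + 1) ^ 2 - 1 = t * (t + 2) := by
      have : (t + 1) ^ 2 = t * (t + 2) + 1 := by ring
      omega
    have hsq' : (t + 1) ^ 2 - (t + 1) + 1 + (t + 1) = (t + 1) ^ 2 + 1 := by
      have : t + 1 ≤ (t + 1) ^ 2 := Nat.le_self_pow (by norm_num) _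
      omega
    obtain ⟨u, v, hu, hu1, hu2, hu3, hu4, hu5⟩ := Psu.exists_uv (t + 1) (by omega)
    rcases h6 with h6 | h6 | h6 | h6 | ⟨h6, -⟩
    · exact hnd _ h6 1 (Or.inl (by ring))
    · rw [hu2] at h6
      have h7 := Nat.dvd_of_mul_dvd_mul_left hs.pos h6
      apply hrt2
      have h8 : t + 2 = Nat.gcd 3 (t + 1 + 1) * u := hu1
      rw [h8]
      exact h7.mul_left _
    · refine hnd _ h6 (Nat.gcd 3 (t + 1 + 1)) (Or.inr (Or.inl ?_))
      rw [hu3, mul_comm, ← mul_assoc, mul_comm (Nat.gcd 3 (t + 1 + 1)), mul_assoc, ← hu1, Nat.add_sub_cancel]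
    · refine hnd _ h6 (Nat.gcd 3 (t + 1 + 1)) (Or.inr (Or.inr ?_))
      rw [hu5, mul_comm, ← hu4, hsq']
    · exact hs2 h6
  have h7 : r ^ (k + 1) ∣ s - 1 := by
    have h8 : Nat.Coprime (r ^ (k + 1)) (Nat.card ↥(H ⊓ centralizer ({c} : Set G))) := by
      apply Nat.Coprime.pow_left
      rwa [hr.coprime_iff_not_dvd]
    exact h8.dvd_of_dvd_mul_right (h5.trans h2)
  rw [hkm, pow_succ] at h7
  exact hm (Nat.dvd_of_mul_dvd_mul_left (pow_pos hr.pos k) h7)

/-- the small Ree groups -/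
theorem ree_false (A : AS G Ω T) {K : Type w} [Field K] [Fintype K] {m : ℕ} (hm : 1 ≤ m)
    (hK : Fintype.card K = 3 ^ (2 * m + 1)) (e : ↥T ≃* ↥(Cfsg.Lie.twistedG2 K (3 ^ m)))
    (hn : Nat.card Ω = Fintype.card K ^ 3 + 1) (R : Reg T a 3 U) (h : NC a 3 x) : False := by
  have := A.finG
  have hnt := A.nontrivialΩ
  obtain ⟨b, hb⟩ := exists_ne a
  have h1 := R.card A hb
  rw [Nat.card_congr e.toEquiv, Cfsg.Agent.LieRecognition.ReeFinal.card hK, hn, hK, Nat.add_sub_cancel] at h1
  set H := T ⊓ stabilizer G a ⊓ stabilizer G b with hH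
  set q := 3 ^ (2 * m + 1) with hq
  have h27 : 27 ≤ q := by
    calc 27 = 3 ^ 3 := rfl
      _ ≤ 3 ^ (2 * m + 1) := Nat.pow_le_pow_right (by norm_num) (by omega)
  have hHc : Nat.card H = q - 1 := by
    have h2 : ((q ^ 3 + 1) * q ^ 3) * Nat.card H = ((q ^ 3 + 1) * q ^ 3) * (q - 1) := by
      calc ((q ^ 3 + 1) * q ^ 3) * Nat.card H = (q ^ 3 + 1) * (q ^ 3 * Nat.card H) := by ring
        _ = q ^ 3 * (q - 1) * (q ^ 3 + 1) := h1.symm
        _ = _ := by ring
    exact Nat.eq_of_mul_eq_mul_left (by positivity) h2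
  -- `q ≡ 3` modulo 4
  have hq4 : q % 4 = 3 := by
    rw [hq, pow_succ, pow_mul, Nat.mul_mod, Nat.pow_mod]
    norm_num
  have hne : (q - 1) / 2 ≠ 1 := by omega
  obtain ⟨r, hr, hrd⟩ := Nat.exists_prime_and_dvd hne
  have hr2 : r ≠ 2 := by
    rintro rfl
    omega
  have hrq : r ∣ q - 1 := by
    have h2 : q - 1 = 2 * ((q - 1) / 2) := by (clear * - hq4; omega)
    rw [h2]
    exact hrd.mul_left 2
  have h3q : 3 ∣ q := dvd_pow_self 3 (by omega)
  have hr3 : r ≠ 3 := by
    rintro rfl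
    (clear * - h27 hrq; omega)
  obtain ⟨c, hc, hco, hcn⟩ := R.key A h hb
  have h2 := card_dvd_of_norm Nat.prime_three hco H hcn
  have h3 : r ∣ Nat.card ↥(H ⊓ centralizer ({c} : Set G)) := by
    rw [← hHc] at hrq
    rcases hr.dvd_mul.1 (hrq.trans h2) with h4 | h4
    · exact absurd ((Nat.prime_dvd_prime_iff_eq hr Nat.prime_two).1 h4) hr2
    · exact h4
  obtain ⟨y, hy⟩ := exists_mul_order (T := T) (U := U) (K := H) R.le (inf_le_left.trans inf_le_left) hc
    Nat.prime_three hr hr3 hco h3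
  have ho := (Cfsg.Agent.S1159.result hm hK (3 * r)).1 ⟨e y, by rw [MulEquiv.orderOf_eq, hy]⟩
  rw [← hq] at ho
  have h3r : 3 ∣ 3 ^ (m + 1) := dvd_pow_self 3 (by omega)
  have hrle : 3 ^ (m + 1) ≤ q := Nat.pow_le_pow_right (by norm_num) (by omega)
  have key : ∀ z, 3 * r ∣ z → 3 ∣ z := fun z hz => (Dvd.intro _ rfl).trans hz
  rcases ho with ho | ho | ho | ho | ho | ho
  · have h4 : 3 * r ∣ 3 * 2 := ho
    have h5 := Nat.dvd_of_mul_dvd_mul_left (by norm_num) h4
    exact hr2 ((Nat.prime_dvd_prime_iff_eq hr Nat.prime_two).1 h5)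
  · have h4 : 3 * r ∣ 3 * 3 := ho
    have h5 := Nat.dvd_of_mul_dvd_mul_left (by norm_num) h4
    exact hr3 ((Nat.prime_dvd_prime_iff_eq hr Nat.prime_three).1 h5)
  · have := key _ ho
    (clear * - h27 this; omega)
  · have h5 : 3 ∣ 2 * ((q + 1) / 2) := (key _ ho).mul_left 2
    have h6 : 2 * ((q + 1) / 2) = q + 1 := by omega
    rw [h6] at h5
    omega
  · have := key _ ho
    (clear * - this; omega)
  · have := key _ ho
    (clear * - this; omega)

end Cfsg.Agent.H499.TT
end

-- part: H499/TTRegRGD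
section
/-!
# Regular subgroups from root group data of rank one (helper499)
-/

set_option autoImplicit false
set_option linter.unusedSectionVars false

namespace Cfsg.Agent.H499.TT

open CoxeterSystem Cfsg.Agent.ChevalleyStructure.CoxeterGeom Cfsg.Agent.Tits.Roots Cfsg.Agent.Tits.Core
  Cfsg.Agent.Tits.Exchange Cfsg.Agent.Nodes.Comb Cfsg.Agent.Nodes.Reps Cfsg.Agent.Nodes.BNOf Cfsg.Agent.Nodes.Bruhat
  Cfsg.Agent.Nodes.RGDLib Cfsg.Agent.H410.TwoTransRGD Cfsg.Agent.H410.ParRGD Cfsg.Agent.H410.Types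
  Cfsg.Agent.H384.TwoTrans Cfsg.Agent.H410.ASLie Cfsg.Agent.H410.RankOne Cfsg.Agent.Omega.ML.Ex.Typ
open MulAction Cfsg

variable {G Ω : Type*} [Group G] [MulAction G Ω] {T : Subgroup G}

section RGD

variable {I W : Type*} [Fintype I] [DecidableEq I] [Group W] {M : CoxeterMatrix I}
  {cs : CoxeterSystem M W} {Ca : I → I → ℤ} {h : IsCartan M Ca} {r : ℕ} {Tor : Subgroup ↥T}
  {n : I → ↥T} {X : (I → ℤ) → Subgroup ↥T}

theorem reg_of_rank_one (A : AS G Ω T) (R : RGD cs h r Tor n X) [Finite W] [Fact r.Prime]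
    (hG : RGD.Sup X {x | IsRoot cs h x} = ⊤) (hr : ¬ r ∣ Nat.card Ω) {i : I} (hi : ∀ j : I, j = i) :
    ∃ (α : Ω) (U : Subgroup G), Reg T α r U := by
  have := A.finG
  have := A.finΩ
  have := Cfsg.Agent.H410.ASLie.trans A
  obtain ⟨α, hB, s, hJ, -⟩ := exists_par A R hG hr
  have hJ' : JH X (stabilizer ↥T α) = ∅ := by
    rw [hJ, Set.eq_empty_iff_forall_notMem]
    intro j hj
    exact hj ((hi j).trans (hi s).symm)
  have hBα := eq_B_of_JH R hG hB hJ'
  -- `U = X α_i`
  have hPos : RGD.Sup X (RGD.Pos cs h) ≤ X (sr i) := by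
    refine RGD.Sup_le ?_
    rintro x ⟨⟨w, j, rfl⟩, h0⟩
    obtain rfl := hi j
    by_cases hw : w = 1
    · rw [hw, map_one, Module.End.one_apply]
    · exfalso
      rw [H410.PSUThree.eq_simple (cs := cs) hi hw, rep_simple_sr] at h0
      have := h0 j
      rw [Pi.neg_apply, sr_self] at this
      exact absurd this (by show ¬ ((0 : ℤ) ≤ -1); decide)
  obtain ⟨k, hk⟩ := exists_rp cs R.nsys (cs.simple i)
  have hne1 : cs.simple i ≠ 1 := by
    intro h1
    have := cs.length_simple i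
    rw [h1, cs.length_one] at this
    exact absurd this (by decide)
  have hkα : k • α ≠ α := by
    intro h1
    have h2 : k ∈ stabilizer ↥T α := h1
    rw [hBα] at h2
    exact hne1 (R.eq_one_of_mem_B hk h2)
  -- the orbit of `k • α`
  have hfree : ∀ u ∈ RGD.Sup X (RGD.Pos cs h), u • k • α = k • α → u = 1 := by
    intro u hu h2
    have h3 : k⁻¹ * u * (k⁻¹)⁻¹ ∈ RGD.B cs h Tor X := by
      rw [← hBα, mem_stabilizer_iff, inv_inv, mul_smul, mul_smul, inv_smul_eq_iff]
      exact h2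
    have h5 : Rp cs R.nsys (cs.simple i) k⁻¹ := by
      have := hk.inv
      rwa [cs.inv_simple] at this
    exact eq_one_of_conj_mem_B R (hPos hu) h5 h3
  have htr : ∀ x : Ω, x ≠ α → ∃ u ∈ RGD.Sup X (RGD.Pos cs h), u • k • α = x := by
    intro x hx
    obtain ⟨g, rfl⟩ := MulAction.exists_smul_eq ↥T α x
    obtain ⟨w, hw⟩ := exists_cell R hG g
    have hw1 : w ≠ 1 := by
      rintro rfl
      exact hx (hB hw.mem_of_one)
    rw [H410.PSUThree.eq_simple (cs := cs) hi hw1] at hw
    obtain ⟨b₁, hb₁, k', hk', b₂, hb₂, e⟩ := hw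
    obtain ⟨t, ht, u, hu, e1⟩ := R.mem_B.1 (inv_mem hb₁)
    refine ⟨u⁻¹, inv_mem hu, ?_⟩
    have h2 : b₂ • α = α := hB hb₂
    have e2 : b₁ = u⁻¹ * t⁻¹ := by rw [← inv_inv b₁, e1]; group
    have h3 : t⁻¹ * k' = k * (k⁻¹ * (t⁻¹ * k')) := by group
    have h4 : k⁻¹ * (t⁻¹ * k') ∈ Tor := by
      have h5 : Rp cs R.nsys (cs.simple i) (t⁻¹ * k') := by
        have := (rp_of_mem (cs := cs) (hN := R.nsys) (inv_mem ht)).mul hk'
        rwa [one_mul] at this
      exact hk.unique h5
    have h5 : (k⁻¹ * (t⁻¹ * k')) • α = α := hB (RGD.T_le_B h4)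
    rw [e, e2, mul_smul, h2, mul_assoc u⁻¹, h3, mul_smul, mul_smul, h5]
  refine ⟨α, (RGD.Sup X (RGD.Pos cs h)).map T.subtype, ?_⟩
  constructor
  · rintro _ ⟨u, -, rfl⟩
    exact u.2
  · exact (R.isPGroup_Upos).map _
  · rintro _ ⟨u, hu, rfl⟩
    exact hB (RGD.U_le_B hu)
  · rintro t ht hta _ ⟨u, hu, rfl⟩
    have h1 : (⟨t, ht⟩ : T) ∈ RGD.B cs h Tor X := by
      rw [← hBα]
      exact hta
    have h2 := (Subgroup.mem_normalizer_iff.1 (R.B_le_normalizer_U h1) u).1 hu
    exact ⟨_, h2, rfl⟩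
  · rintro _ ⟨u, hu, rfl⟩ b hb hub
    have hub' : u • b = b := hub
    obtain ⟨v, hv, rfl⟩ := htr b hb
    have h1 : (v⁻¹ * u * v) = 1 := by
      apply hfree _ (mul_mem (mul_mem (inv_mem hv) hu) hv)
      rw [mul_smul, mul_smul, inv_smul_eq_iff]
      exact hub'
    have h2 : u = 1 := by
      have : u = v * (v⁻¹ * u * v) * v⁻¹ := by group
      rw [this, h1]
      group
    rw [h2]
    rfl
  · intro b c hb hc
    obtain ⟨v, hv, rfl⟩ := htr b hb
    obtain ⟨w, hw, rfl⟩ := htr c hc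
    refine ⟨_, ⟨w * v⁻¹, mul_mem hw (inv_mem hv), rfl⟩, ?_⟩
    show (w * v⁻¹) • v • k • α = w • k • α
    rw [mul_smul, inv_smul_smul]

end RGD

/-- `PSU₃(q)` -/
theorem psu_reg (A : AS G Ω T) {F : Type} [Field F] [Fintype F] {r : ℕ} [hc : CharP F r] {q : ℕ}
    (hF : Fintype.card F = q ^ 2) (e : ↥T ≃* PSU 3 F q) (hr : ¬ r ∣ Nat.card Ω) :
    ∃ (α : Ω) (U : Subgroup G), Reg T α r U := by
  have : Fact r.Prime := ⟨CharP.char_is_prime F r⟩
  have hfinG := A.finG
  obtain ⟨m, hm, hR⟩ := typ_PSU (p := r) hF (le_refl 3)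
  obtain rfl : m = 1 := by omega
  obtain ⟨A', h, T', n, X, hW, R, hX⟩ := hR.of_equiv e.symm
  have hfW : Finite (CoxeterMatrix.B 1).Group := hW
  exact reg_of_rank_one A R hX hr (i := (0 : Fin 1)) (fun j => Subsingleton.elim _ _)

open Matrix in
open Cfsg.Agent.LieRecognition.BNCox (cA) in
open Cfsg.Agent.Nodes.RootsA in
/-- `PSL₂(q)` -/
theorem psl2_reg (A : AS G Ω T) {F : Type*} [Field F] [Finite F] {r : ℕ} [CharP F r] [Fact r.Prime]
    (e : ↥T ≃* ProjectiveSpecialLinearGroup (Fin 2) F) (hr : ¬ r ∣ Nat.card Ω) :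
    ∃ (α : Ω) (U : Subgroup G), Reg T α r U := by
  have := A.finG
  have := A.simple
  set f : _root_.Matrix.SpecialLinearGroup (Fin (0 + 1 + 1)) F →* ↥T := e.symm.toMonoidHom.comp (Nodes.RGDTypeA.pr (0 + 1) F) with hf
  have hsurj : Function.Surjective f := e.symm.surjective.comp Nodes.RGDTypeA.pr_surjective
  have hker : f.ker = Subgroup.center (_root_.Matrix.SpecialLinearGroup (Fin (0 + 1 + 1)) F) := by
    rw [← Nodes.RGDTypeA.ker_pr]
    ext g
    rw [MonoidHom.mem_ker, MonoidHom.mem_ker, hf, MonoidHom.comp_apply]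
    exact e.symm.map_eq_one_iff
  let cs := (cA (0 + 1)).toCoxeterSystem
  have h := isCartan (0 + 1)
  have hW : Finite (cA (0 + 1)).Group := finite_W cs h
  have := Fintype.ofFinite (cA (0 + 1)).Group
  have R₀ := Nodes.RGDTypeA.rgd (F := F) cs h (p := r)
  have hG₀ : RGD.Sup (Nodes.RGDTypeA.X F) {x | IsRoot cs h x} = ⊤ := Nodes.RGDTypeA.G1_eq_top cs h
  have R := rgd_map_of_ker_le_center R₀ f hker.le
  have hG : RGD.Sup (fun x => (Nodes.RGDTypeA.X F x).map f) {x | IsRoot cs h x} = ⊤ := by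
    have := Nodes.RGDTypeA.G1_map cs h (Nodes.RGDTypeA.X F) f
    unfold G1 at this
    rw [this, hG₀, Subgroup.map_top_of_surjective _ hsurj]
  exact reg_of_rank_one A R hG hr (i := (0 : Fin (0 + 1))) (fun j => by
    apply Fin.ext
    have := j.2
    have h2 : ((0 : Fin (0 + 1)) : ℕ) = 0 := rfl
    omega)

end Cfsg.Agent.H499.TT
end

-- part: H499/TTRegSyl
section
/-!
# Regular subgroups from trivially intersecting Sylow subgroups; the Ree groups (helper499)
-/

set_option autoImplicit false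

namespace Cfsg.Agent.H499.TT

open MulAction Subgroup Cfsg Cfsg.Agent.H384.TwoTrans

universe u v w

section

variable {X : Type w} {Ω : Type v} [Group X] [Finite X] [Finite Ω] [MulAction X Ω] {p : ℕ} [Fact p.Prime]

/-- trivially intersecting Sylow subgroups, `#P + 1` of them -/
theorem syl_trans (hTI : ∀ P Q : Sylow p X, P ≠ Q → (P : Subgroup X) ⊓ (Q : Subgroup X) = ⊥) (P₀ : Sylow p X)
    (hc : Nat.card (Sylow p X) = Nat.card P₀ + 1) (P Q R : Sylow p X) (hQ : Q ≠ P) (hR : R ≠ P) :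
    ∃ x ∈ (P : Subgroup X), x • Q = R := by
  have h2 := Cfsg.Agent.H125.TwoSyl.two_of_TI hTI P₀ hc
  -- `P` acts semiregularly on the others
  have hinj : Function.Injective (fun x : (P : Subgroup X) => (x : X) • Q) := by
    intro x y hxy
    have h1 : ((y : X)⁻¹ * x) • Q = Q := by
      rw [mul_smul, inv_smul_eq_iff]; exact hxy
    have h2 : ((y : X)⁻¹ * x) ∈ (P : Subgroup X) := mul_mem (inv_mem y.2) x.2
    have h3 : ((y : X)⁻¹ * x) ∈ Subgroup.normalizer ((Q : Subgroup X) : Set X) :=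
      Sylow.smul_eq_iff_mem_normalizer.1 h1
    have h4 : ((y : X)⁻¹ * x) ∈ (Q : Subgroup X) := by
      have h5 : IsPGroup p (Subgroup.zpowers ((y : X)⁻¹ * x)) :=
        P.2.to_le (by rw [Subgroup.zpowers_le]; exact h2)
      have h6 : Subgroup.zpowers ((y : X)⁻¹ * x) ≤ Subgroup.normalizer ((Q : Subgroup X) : Set X) := by
        rw [Subgroup.zpowers_le]; exact h3
      have h7 : Subgroup.zpowers ((y : X)⁻¹ * x) ⊓ Subgroup.normalizer ((Q : Subgroup X) : Set X) =
        Subgroup.zpowers ((y : X)⁻¹ * x) ⊓ (Q : Subgroup X) := h5.inf_normalizer_sylow Q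
      rw [inf_eq_left.2 h6] at h7
      exact (inf_eq_left.1 h7.symm) (Subgroup.mem_zpowers _)
    have h5 : ((y : X)⁻¹ * x) ∈ (P : Subgroup X) ⊓ (Q : Subgroup X) := ⟨h2, h4⟩
    rw [hTI P Q hQ.symm, Subgroup.mem_bot] at h5
    exact Subtype.ext (inv_mul_eq_one.1 h5).symm
  have hP : ∀ x : (P : Subgroup X), (x : X) • Q ≠ P := by
    intro x hx
    apply hQ
    have h1 : (x : X) • P = P := by
      rw [Sylow.smul_eq_iff_mem_normalizer]
      exact Subgroup.le_normalizer x.2
    exact MulAction.injective (x : X) (hx.trans h1.symm)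
  let f : ↥(P : Subgroup X) → {S : Sylow p X // S ≠ P} := fun x => ⟨(x : X) • Q, hP x⟩
  have hf : Function.Injective f := fun x y hxy => hinj (congrArg Subtype.val hxy)
  have hcf : Nat.card (P : Subgroup X) = Nat.card {S : Sylow p X // S ≠ P} := by
    classical
    have h1 : Nat.card {S : Sylow p X // S ≠ P} + 1 = Nat.card (Sylow p X) := by
      have := Fintype.ofFinite (Sylow p X)
      rw [Nat.card_eq_fintype_card, Nat.card_eq_fintype_card, Fintype.card_subtype_compl,
        Fintype.card_subtype_eq]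
      have : 0 < Fintype.card (Sylow p X) := Fintype.card_pos_iff.2 ⟨P⟩
      omega
    have h2 : Nat.card P = Nat.card P₀ := Nat.card_congr (P.equiv P₀).toEquiv
    omega
  have hbij : Function.Bijective f := by
    rw [Nat.bijective_iff_injective_and_card]
    exact ⟨hf, hcf⟩
  obtain ⟨x, hx⟩ := hbij.2 ⟨R, hR⟩
  exact ⟨x, x.2, congrArg Subtype.val hx⟩

theorem syl_reg [IsPretransitive X Ω] [IsSimpleGroup X]
    (hTI : ∀ P Q : Sylow p X, P ≠ Q → (P : Subgroup X) ⊓ (Q : Subgroup X) = ⊥) (P₀ : Sylow p X)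
    (hc : Nat.card (Sylow p X) = Nat.card P₀ + 1) (hn : Nat.card Ω = Nat.card (Sylow p X)) (hp : p ∣ Nat.card P₀) :
    ∃ α : Ω, (∀ u ∈ P₀, u • α = α) ∧ (∀ t : X, t • α = α → ∀ u ∈ P₀, t * u * t⁻¹ ∈ P₀) ∧
      (∀ u ∈ P₀, ∀ b : Ω, b ≠ α → u • b = b → u = 1) ∧
      (∀ b c : Ω, b ≠ α → c ≠ α → ∃ u ∈ P₀, u • b = c) := by
  have hpp : p.Prime := Fact.out
  have hpn : ¬ p ∣ Nat.card Ω := by
    rw [hn, hc]
    intro h
    exact hpp.one_lt.ne' (Nat.dvd_one.1 ((Nat.dvd_add_right hp).1 h))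
  obtain ⟨α, hα⟩ := P₀.2.nonempty_fixed_point_of_prime_not_dvd_card Ω hpn
  have hP₀ : (P₀ : Subgroup X) ≤ stabilizer X α := fun u hu => hα ⟨u, hu⟩
  have hne : (P₀ : Subgroup X) ≠ ⊥ := by
    intro h
    have h1 : Nat.card P₀ = 1 := by
      have : Nat.card (P₀ : Subgroup X) = 1 := by rw [h, Subgroup.card_bot]
      exact this
    rw [h1] at hp
    exact hpp.one_lt.ne' (Nat.dvd_one.1 hp)
  have hstab : stabilizer X α ≠ ⊤ := by
    intro h
    have h1 := index_stabilizer_of_transitive X α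
    rw [h, Subgroup.index_top, hn, hc] at h1
    have : 0 < Nat.card P₀ := Nat.card_pos
    omega
  -- uniqueness
  have huniq : ∀ Q : Sylow p X, (Q : Subgroup X) ≤ stabilizer X α → Q = P₀ := by
    intro Q hQ
    by_contra hcon
    apply hstab
    have h1 : normalClosure ((P₀ : Subgroup X) : Set X) = ⊤ := by
      rcases IsSimpleGroup.eq_bot_or_eq_top_of_normal (normalClosure ((P₀ : Subgroup X) : Set X)) inferInstance
        with h | h
      · exfalso
        apply hne
        rw [eq_bot_iff, ← h]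
        exact subset_normalClosure
      · exact h
    rw [eq_top_iff, ← h1, normalClosure, closure_le]
    intro g hg
    rw [Group.mem_conjugatesOfSet_iff] at hg
    obtain ⟨u, hu, hug⟩ := hg
    obtain ⟨y, hy⟩ := isConj_iff.1 hug
    -- the Sylow subgroup `y • P₀`
    have h2 : ((y • P₀ : Sylow p X) : Subgroup X) ≤ stabilizer X α := by
      by_cases h3 : y • P₀ = P₀
      · rw [h3]; exact hP₀
      · obtain ⟨z, hz, hzQ⟩ := syl_trans hTI P₀ hc P₀ Q (y • P₀) hcon h3
        rw [← hzQ]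
        rintro _ ⟨q, hq, rfl⟩
        show z * q * z⁻¹ ∈ stabilizer X α
        exact mul_mem (mul_mem (hP₀ hz) (hQ hq)) (inv_mem (hP₀ hz))
    rw [← hy]
    exact h2 ⟨u, hu, rfl⟩
  have hnorm : ∀ t : X, t • α = α → t • P₀ = P₀ := by
    intro t ht
    apply huniq
    rintro _ ⟨q, hq, rfl⟩
    show t * q * t⁻¹ ∈ stabilizer X α
    exact mul_mem (mul_mem ht (hP₀ hq)) (inv_mem ht)
  have hN : normalizer ((P₀ : Subgroup X) : Set X) = stabilizer X α := by
    symm
    apply eq_of_le_of_card_ge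
    · intro t ht
      exact Sylow.smul_eq_iff_mem_normalizer.1 (hnorm t ht)
    · have h1 := index_stabilizer_of_transitive X α
      have h2 : Nat.card (Sylow p X) = (normalizer ((P₀ : Subgroup X) : Set X)).index :=
        Sylow.card_eq_index_normalizer P₀
      have h3 := (stabilizer X α).index_mul_card
      have h4 := (normalizer ((P₀ : Subgroup X) : Set X)).index_mul_card
      rw [h1, hn] at h3
      rw [← h2] at h4
      have h5 : 0 < Nat.card (Sylow p X) := Nat.card_pos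
      exact (Nat.eq_of_mul_eq_mul_left h5 (h4.trans h3.symm)).le
  have hfree : ∀ u ∈ P₀, ∀ b : Ω, b ≠ α → u • b = b → u = 1 := by
    intro u hu b hb hub
    obtain ⟨g, rfl⟩ := _root_.MulAction.exists_smul_eq X α b
    have h1 : g • P₀ ≠ P₀ := by
      intro h
      apply hb
      have h2 : g ∈ normalizer ((P₀ : Subgroup X) : Set X) := Sylow.smul_eq_iff_mem_normalizer.1 h
      rw [hN] at h2
      exact h2
    have h3 : u ∈ normalizer (((g • P₀ : Sylow p X) : Subgroup X) : Set X) := by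
      apply Sylow.smul_eq_iff_mem_normalizer.1
      have h4 : (g⁻¹ * u * g) • α = α := by
        rw [mul_smul, mul_smul, hub, inv_smul_smul]
      have h5 := hnorm _ h4
      rw [mul_smul, mul_smul, inv_smul_eq_iff] at h5
      exact h5
    have h4 : u ∈ ((g • P₀ : Sylow p X) : Subgroup X) := by
      have h5 : IsPGroup p (Subgroup.zpowers u) := P₀.2.to_le (by rw [Subgroup.zpowers_le]; exact hu)
      have h6 : Subgroup.zpowers u ≤ Subgroup.normalizer (((g • P₀ : Sylow p X) : Subgroup X) : Set X) := by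
        rw [Subgroup.zpowers_le]; exact h3
      have h7 : Subgroup.zpowers u ⊓ Subgroup.normalizer (((g • P₀ : Sylow p X) : Subgroup X) : Set X) =
        Subgroup.zpowers u ⊓ ((g • P₀ : Sylow p X) : Subgroup X) := h5.inf_normalizer_sylow (g • P₀)
      rw [inf_eq_left.2 h6] at h7
      exact (inf_eq_left.1 h7.symm) (Subgroup.mem_zpowers _)
    have h5 : u ∈ (P₀ : Subgroup X) ⊓ ((g • P₀ : Sylow p X) : Subgroup X) := ⟨hu, h4⟩
    rw [hTI _ _ h1.symm, Subgroup.mem_bot] at h5
    exact h5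
  refine ⟨α, fun u hu => hP₀ hu, ?_, hfree, ?_⟩
  · intro t ht u hu
    have h1 := hnorm t ht
    have h2 : t * u * t⁻¹ ∈ ((t • P₀ : Sylow p X) : Subgroup X) := ⟨u, hu, rfl⟩
    rw [h1] at h2
    exact h2
  · intro b c hb hc'
    have hne' : ∀ u : (P₀ : Subgroup X), (u : X) • b ≠ α := by
      intro u h
      apply hb
      have h1 : (u : X) • α = α := hP₀ u.2
      rw [← h1] at h
      exact smul_left_cancel _ h
    let f : ↥(P₀ : Subgroup X) → {x : Ω // x ≠ α} := fun u => ⟨(u : X) • b, hne' u⟩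
    have hf : Function.Injective f := by
      intro u v huv
      have h1 : (u : X) • b = (v : X) • b := congrArg Subtype.val huv
      have h2 : (v : X)⁻¹ * u = 1 := by
        apply hfree _ (mul_mem (inv_mem v.2) u.2) b hb
        rw [mul_smul, inv_smul_eq_iff, h1]
      exact Subtype.ext (inv_mul_eq_one.1 h2).symm
    have hcf : Nat.card (P₀ : Subgroup X) = Nat.card {x : Ω // x ≠ α} := by
      classical
      have h1 : Nat.card {x : Ω // x ≠ α} + 1 = Nat.card Ω := by
        have := Fintype.ofFinite Ω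
        rw [Nat.card_eq_fintype_card, Nat.card_eq_fintype_card, Fintype.card_subtype_compl,
          Fintype.card_subtype_eq]
        have : 0 < Fintype.card Ω := Fintype.card_pos_iff.2 ⟨α⟩
        omega
      have h2 : Nat.card (P₀ : Subgroup X) = Nat.card P₀ := rfl
      omega
    have hbij : Function.Bijective f := by
      rw [Nat.bijective_iff_injective_and_card]
      exact ⟨hf, hcf⟩
    obtain ⟨u, hu⟩ := hbij.2 ⟨c, hc'⟩
    exact ⟨u, u.2, congrArg Subtype.val hu⟩

end

variable {G : Type u} {Ω : Type v} [Group G] [MulAction G Ω] {T : Subgroup G}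

theorem reg_of_TI (A : AS G Ω T) {X : Type w} [Group X] [Finite X] (e : ↥T ≃* X) {p : ℕ} [Fact p.Prime]
    (hTI : ∀ P Q : Sylow p X, P ≠ Q → (P : Subgroup X) ⊓ (Q : Subgroup X) = ⊥) (P₀ : Sylow p X)
    (hc : Nat.card (Sylow p X) = Nat.card P₀ + 1) (hn : Nat.card Ω = Nat.card (Sylow p X))
    (hp : p ∣ Nat.card P₀) : ∃ (α : Ω) (U : Subgroup G), Reg T α p U := by
  have := A.finG
  have := A.finΩ
  have hT := A.transitive
  have hs := A.simple
  let act : MulAction X Ω := MulAction.compHom Ω e.symm.toMonoidHom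
  have hact : ∀ (y : X) (b : Ω), y • b = (e.symm y : G) • b := fun _ _ => rfl
  have htr : IsPretransitive X Ω := ⟨fun b c => by
    obtain ⟨t, ht⟩ := _root_.MulAction.exists_smul_eq T b c
    refine ⟨e t, ?_⟩
    rw [hact, e.symm_apply_apply]
    exact ht⟩
  have hsX : IsSimpleGroup X := (MulEquiv.isSimpleGroup_congr e).1 hs
  obtain ⟨α, h1, h2, h3, h4⟩ := syl_reg (Ω := Ω) hTI P₀ hc hn hp
  refine ⟨α, ((P₀ : Subgroup X).map e.symm.toMonoidHom).map T.subtype, ?_⟩
  constructor
  · rintro _ ⟨u, -, rfl⟩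
    exact u.2
  · exact (P₀.2.map _).map _
  · rintro _ ⟨_, ⟨u, hu, rfl⟩, rfl⟩
    exact h1 u hu
  · rintro t ht hta _ ⟨_, ⟨u, hu, rfl⟩, rfl⟩
    refine ⟨_, ⟨_, h2 (e ⟨t, ht⟩) ?_ u hu, rfl⟩, ?_⟩
    · rw [hact, e.symm_apply_apply]
      exact hta
    · show ((e.symm (e ⟨t, ht⟩ * u * (e ⟨t, ht⟩)⁻¹) : T) : G) = t * (e.symm u : T) * t⁻¹
      rw [map_mul, map_mul, map_inv, e.symm_apply_apply]
      rfl
  · rintro _ ⟨_, ⟨u, hu, rfl⟩, rfl⟩ b hb hub
    have h5 := h3 u hu b hb hub
    rw [h5, map_one]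
    rfl
  · intro b c hb hc'
    obtain ⟨u, hu, huc⟩ := h4 b c hb hc'
    exact ⟨_, ⟨_, ⟨u, hu, rfl⟩, rfl⟩, huc⟩

/-- the small Ree groups -/
theorem ree_reg (A : AS G Ω T) {K : Type w} [Field K] [Fintype K] {m : ℕ} (hm : 1 ≤ m)
    (hK : Fintype.card K = 3 ^ (2 * m + 1)) (e : ↥T ≃* ↥(Cfsg.Lie.twistedG2 K (3 ^ m)))
    (hn : Nat.card Ω = Fintype.card K ^ 3 + 1) : ∃ (α : Ω) (U : Subgroup G), Reg T α 3 U := by
  have hfact : Fact (Nat.Prime 3) := ⟨Nat.prime_three⟩
  have hfin : Finite ↥(Cfsg.Lie.twistedG2 K (3 ^ m)) := Cfsg.Agent.H125.TwoRee.finite_ree hm hK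
  obtain ⟨P, h1, h2⟩ := Cfsg.Agent.H125.TwoReeSyl.exists_sylow_card (Cfsg.Agent.LieRecognition.ReeFinal.data hK) hK
  refine reg_of_TI A e (fun P Q hPQ => Cfsg.Agent.LieRecognition.ReeSylowThree.sylow_three_inf hK
    (Cfsg.Agent.LieRecognition.ReeFinal.data hK) P Q hPQ) P (by rw [h2, h1]) (by rw [hn, h2, hK]) ?_
  rw [h1]
  exact dvd_pow (dvd_pow_self 3 (by omega)) (by norm_num)

end Cfsg.Agent.H499.TT
end
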