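import Cfsg.Agent.H384.Dim24
import Cfsg.Agent.H353.TwoLong_m3
import Cfsg.Agent.H384.AsOut
import Cfsg.Agent.H499.TTSz_mg_m3
import Cfsg.Agent.S0679
import Cfsg.Agent.S1601
import Cfsg.Agent.S2061
import Cfsg.Agent.S2062
import Cfsg.Agent.S2071
import Cfsg.Agent.S2072
import Cfsg.Agent.MTwelveType.SylowModel
import Cfsg.Agent.H384.TwoCyc
import Cfsg.Agent.S2060
import Cfsg.Agent.S2063
import Cfsg.Agent.S2064
import Cfsg.Agent.Prune
set_option linter.all false
prune_inst 0x7f00000000000000000000000000000000000000000000000000000000000000000000000000000000000000000000000000000000000000000000000000000000000000000000000000000000000000003fffffffffffffffffffffffffffbeffbdffffffff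
open scoped Cfsg.Agent.FastGrp

-- part: H384/TwoCycSpor
section
/-!
# Elements with the cycles of lengths `1`, `n - 1`: the rows `M12`, `M22`, `HS`, `Co3`
-/

set_option autoImplicit false

namespace Cfsg.Agent.H384.TwoCycSpor

open MulAction Pointwise TwoTrans TwoCyc

variable {G Ω : Type*} [Group G] [MulAction G Ω] {T : Subgroup G} {g : G} {ω : Ω}

theorem orderOf_eq (A : AS G Ω T) (hc : Cyc g ({ω}ᶜ : Set Ω)) : orderOf g = Nat.card Ω - 1 := by
  have := A.finΩ
  have := A.faithful
  obtain ⟨β, hβ⟩ := A.two_ne ω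
  exact hc.orderOf_eq hβ

theorem hs_row (A : AS G Ω T) (h : Spor.IsoHS T) (hn : Nat.card Ω = 176) (hc : Cyc g ({ω}ᶜ : Set Ω)) : False := by
  obtain ⟨e⟩ := h
  have h1 := orderOf_eq A hc
  rw [hn] at h1
  have h2 := A.index_dvd_out e
  rw [S2072.result] at h2
  have h3 : g ∈ T := A.mem_of_coprime h2 (by rw [h1]; decide)
  refine Dim24.hs_no (x := e ⟨g, h3⟩) ?_
  rw [MulEquiv.orderOf_eq, Subgroup.orderOf_mk, h1]

theorem m22_row (A : AS G Ω T) (h : Spor.IsoM22 T) (hn : Nat.card Ω = 22) (hc : Cyc g ({ω}ᶜ : Set Ω)) : False := by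
  obtain ⟨e⟩ := h
  have h1 := orderOf_eq A hc
  rw [hn] at h1
  have h2 := A.index_dvd_out e
  rw [S2062.result] at h2
  have h3 : g ∈ T := A.mem_of_coprime h2 (by rw [h1]; decide)
  refine Dim24.m22_no (x := e ⟨g, h3⟩) ?_
  rw [MulEquiv.orderOf_eq, Subgroup.orderOf_mk, h1]

theorem co3_row (A : AS G Ω T) (h : Spor.IsoCo3 T) (hn : Nat.card Ω = 276) (hc : Cyc g ({ω}ᶜ : Set Ω)) : False := by
  obtain ⟨e⟩ := h
  have h1 := orderOf_eq A hc
  rw [hn] at h1
  have h2 := A.index_dvd_out e
  rw [S2071.result] at h2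
  have h3 : g ∈ T := A.mem_of_coprime h2 (by rw [h1]; decide)
  refine Dim24.co3_no (x := e ⟨g, h3⟩) ?_
  rw [MulEquiv.orderOf_eq, Subgroup.orderOf_mk, h1]

/-- the order of a point stabiliser acting on 11 points, when `n = 12` -/
theorem stab_card (A : AS G Ω T) [Finite G] (ω : Ω) (hn : Nat.card Ω = 12) :
    Nat.card (stabilizer G ω) = 7920 ∨ Nat.card (stabilizer G ω) = 660 ∨ Nat.card (stabilizer G ω) ∣ 110 ∨
      19958400 ≤ Nat.card (stabilizer G ω) := by
  classical
  have := A.finΩ
  have := A.faithful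
  have := A.two
  let α := ↥(SubMulAction.ofStabilizer G ω)
  have : Fintype α := Fintype.ofFinite α
  have hα : Fintype.card α = 11 := by
    have h1 := SubMulAction.nat_card_ofStabilizer_add_one_eq G ω
    have h2 : Nat.card α = Fintype.card α := Nat.card_eq_fintype_card
    have h3 : Nat.card α + 1 = Nat.card Ω := h1
    omega
  have htrG : IsPretransitive G Ω := isPretransitive_of_is_two_pretransitive
  have htr : IsPretransitive (stabilizer G ω) α := by
    have := (SubMulAction.ofStabilizer.isMultiplyPretransitive (G := G) (a := ω) (n := 1)).1 A.two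
    exact is_one_pretransitive_iff.1 this
  have hfa : FaithfulSMul (stabilizer G ω) α := by
    constructor
    intro x y hxy
    apply Subtype.ext
    apply FaithfulSMul.eq_of_smul_eq_smul (α := Ω)
    intro β
    by_cases hβ : β = ω
    · rw [hβ]
      have h1 : (x : G) • ω = ω := x.2
      have h2 : (y : G) • ω = ω := y.2
      rw [h1, h2]
    · exact congrArg Subtype.val (hxy ⟨β, hβ⟩)
  let K := (toPermHom (stabilizer G ω) α).range
  have hK : Nat.card (stabilizer G ω) = Nat.card K :=
    Nat.card_congr (MonoidHom.ofInjective (f := toPermHom (stabilizer G ω) α) toPerm_injective).toEquiv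
  have hKtr : IsPretransitive K α := by
    constructor
    intro x y
    obtain ⟨s, hs⟩ := exists_smul_eq (stabilizer G ω) x y
    exact ⟨⟨toPermHom (stabilizer G ω) α s, s, rfl⟩, hs⟩
  rw [hK]
  by_cases hs : Group.IsSolvable K
  · right; right; left
    have := PrimeDeg.card_dvd (α := α) hs (p := 11) (by norm_num) (by rw [Nat.card_eq_fintype_card, hα])
    simpa using this
  by_cases hA : alternatingGroup α ≤ K
  · right; right; right
    have h1 := Subgroup.card_le_of_le hA
    have : Nontrivial α := Fintype.one_lt_card_iff_nontrivial.1 (by rw [hα]; norm_num)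
    rw [Nat.card_eq_fintype_card (α := alternatingGroup α)] at h1
    have h2 := two_mul_card_alternatingGroup (α := α)
    rw [Fintype.card_perm, hα] at h2
    have h3 : Nat.factorial 11 = 39916800 := by decide
    omega
  rcases S0679.result hα K hs hA with ⟨h4, hst⟩ | ⟨⟨e⟩⟩
  · left
    have hem : Nat.card (Fin 4 ↪ α) = 7920 := by
      rw [Nat.card_eq_fintype_card, Fintype.card_embedding_eq, Fintype.card_fin, hα]
      decide
    have hne : Nonempty (Fin 4 ↪ α) := by
      rw [← Finite.card_pos_iff, hem]; norm_num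
    obtain ⟨x⟩ := hne
    have h5 : IsPretransitive K (Fin 4 ↪ α) := h4
    have h6 := @index_stabilizer_of_transitive K (Fin 4 ↪ α) _ _ x h5
    rw [hst x, Subgroup.index_bot, hem] at h6
    exact h6
  · right; left
    rw [Nat.card_congr e.toEquiv]
    exact S1601.card_PSL

theorem m12_row (A : AS G Ω T) (h : Spor.IsoM12 T) (hn : Nat.card Ω = 12) : T = ⊤ := by
  obtain ⟨e⟩ := h
  have := A.finG
  have := A.finΩ
  have h2 := A.index_dvd_out e
  rw [S2061.result] at h2
  have hT : Nat.card T = 95040 := by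
    rw [Nat.card_congr e.toEquiv]
    exact MTwelveType.SylowModel.card_M12
  have h3 := T.index_mul_card
  have hne : Nonempty Ω := by
    rw [← Finite.card_pos_iff, hn]; norm_num
  obtain ⟨ω⟩ := hne
  have : IsPretransitive G Ω := by
    have := A.two
    exact isPretransitive_of_is_two_pretransitive
  have h4 := (stabilizer G ω).index_mul_card
  rw [index_stabilizer_of_transitive, hn] at h4
  rcases (Nat.dvd_prime Nat.prime_two).1 h2 with h5 | h5
  · exact Subgroup.index_eq_one.1 h5
  · exfalso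
    rw [hT, h5] at h3
    rcases stab_card A ω hn with h6 | h6 | h6 | h6
    · omega
    · omega
    · have := Nat.le_of_dvd (by norm_num) h6
      omega
    · omega

end Cfsg.Agent.H384.TwoCycSpor
end

-- part: H499/TTPointMain
section
/-!
# Primitive groups with an element having two cycles of coprime lengths: S3506 from the list of the 2-transitive
groups (helper499)
-/

set_option autoImplicit false

namespace Cfsg.Agent.H499.TT

open MulAction Cfsg.Agent.H384.TwoTrans Cfsg.Agent.H384.TwoCyc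

universe u v w

section

variable {G : Type u} {Ω : Type v} [Group G] [MulAction G Ω] {T : Subgroup G}

theorem PtCyc.cyc {g : G} {a : Ω} (hg : PtCyc g a) : Cyc g ({a}ᶜ : Set Ω) := by
  constructor
  · intro x hx
    have : x = a := by simpa using hx
    rw [this]
    exact hg.1
  · intro x hx
    apply Set.Subset.antisymm
    · rintro _ ⟨⟨h, k, rfl⟩, rfl⟩
      intro hc
      apply hx
      have h1 : g ^ k • x = a := hc
      have h2 : g ^ k • a = a := by
        have : g ^ k ∈ stabilizer G a := Subgroup.zpow_mem _ hg.1 k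
        exact this
      exact (smul_left_cancel (g ^ k) (h1.trans h2.symm))
    · intro y hy
      obtain ⟨k, hk⟩ := hg.2 x y hx hy
      exact ⟨⟨g ^ k, k, rfl⟩, hk⟩

theorem eq_top_index (hT : T = ⊤) {g : G} [Fintype Ω] (A : AS G Ω T) {a : Ω} (hg : PtCyc g a)
    (ho : Odd (Nat.card Ω)) : False := by
  have h1 := point_odd A hg ho
  rw [hT, Subgroup.index_top] at h1
  omega

/-- the conclusion of S3506 in the almost simple case -/
def PtConcl (G : Type u) [Group G] (n : ℕ) : Prop :=
  (∃ p : ℕ, p.Prime ∧ 5 ≤ p ∧ n = p + 1 ∧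
        ∃ (F : Type) (_ : Field F) (_ : Fintype F), Fintype.card F = p ∧ ∃ T : Subgroup G, T.Normal ∧
          Nonempty (T ≃* Matrix.ProjectiveSpecialLinearGroup (Fin 2) F)) ∨
     (n = 12 ∧ (Cfsg.Spor.IsoM11 G ∨ Cfsg.Spor.IsoM12 G)) ∨
     (n = 24 ∧ Cfsg.Spor.IsoM24 G)

theorem iso_of_top {P : Type w} [Group P] (hT : T = ⊤) (h : Nonempty (T ≃* P)) : Nonempty (G ≃* P) := by
  subst hT
  exact h.map Subgroup.topEquiv.symm.trans

theorem point_rows (A : AS G Ω T) [Fintype Ω] [DecidableEq Ω]
    (halt : ¬ alternatingGroup Ω ≤ (MulAction.toPermHom G Ω).range) {g : G} {a : Ω} (hg : PtCyc g a)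
    (hK : Known2 ↥T (Nat.card Ω)) : PtConcl G (Nat.card Ω) := by
  have hc := hg.cyc
  generalize hn : Nat.card Ω = n at hK
  cases hK with
  | alt n h5 e =>
    obtain ⟨e⟩ := e
    exact absurd (alt_row A e (by rw [hn]; exact card_alt h5)) halt
  | psl F d n hd hd2 e hn' =>
    obtain ⟨e⟩ := e
    rcases Nat.lt_or_ge d 3 with h | h
    · have hd' : d = 2 := by omega
      subst hd'
      have h4 := hd2 rfl
      have hn2 : n = Fintype.card F + 1 := by
        have h1 : Fintype.card F ^ 2 - 1 = (Fintype.card F + 1) * (Fintype.card F - 1) := by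
          have := Nat.sq_sub_sq (Fintype.card F) 1
          rwa [one_pow] at this
        rw [h1] at hn'
        exact Nat.eq_of_mul_eq_mul_right (by omega) hn'
      rw [hn2] at hn ⊢
      rcases psl2_point A h4 e hn hg with hp | h44
      · left
        refine ⟨Fintype.card F, hp, ?_, rfl, F, inferInstance, inferInstance, rfl, T, A.normal, ⟨e⟩⟩
        rcases Nat.lt_or_ge (Fintype.card F) 5 with h5 | h5
        · exfalso
          have : Fintype.card F = 4 := by omega
          rw [this] at hp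
          norm_num at hp
        · exact h5
      · exfalso
        apply halt
        apply alt_row A e
        rw [hn, h44, card_psl2 h44]
        decide
    · exfalso
      exact Cfsg.Agent.H384.TwoCycPSL.psl_row A F h e (by rw [hn]; exact hn') hc
  | sp F m n hF hm e hn' =>
    obtain ⟨e⟩ := e
    exact (sp_point A hF hm e (by rw [hn]; exact hn') hg).elim
  | psu F q n hq hF e hn' =>
    obtain ⟨e⟩ := e
    exact (psu_point A hq hF e (by rw [hn]; exact hn') hg).elim
  | sz F m n hm hF e hn' =>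
    obtain ⟨e⟩ := e
    exact (sz_point A hm hF e (by rw [hn]; exact hn') hg).elim
  | ree K m n hm hF e hn' =>
    obtain ⟨e⟩ := e
    exact (ree_point A hm hF e (by rw [hn]; exact hn') hg).elim
  | psl2_8 F hF e =>
    obtain ⟨e⟩ := e
    exact (psl2_8_point A hF e hn hg).elim
  | psl2_9 F hF e =>
    obtain ⟨e⟩ := e
    refine absurd (alt_row A e ?_) halt
    rw [hn, card_psl2 hF]
    decide
  | psl2_11 F hF e =>
    obtain ⟨e⟩ := e
    have h1 := psl2_11_index A hF e hn
    exact (eq_top_index (Subgroup.index_eq_one.1 h1) A hg (by rw [hn]; decide)).elim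
  | psl4_2 F hF e =>
    obtain ⟨e⟩ := e
    refine absurd (alt_row A e ?_) halt
    rw [hn, card_psl4_2 hF]
    decide
  | a7 e =>
    obtain ⟨e⟩ := e
    exfalso
    have h1 := point_order A hg
    rw [hn] at h1
    have h2 := alt_orderOf A (by norm_num) (by norm_num) e (g := g) (r := 2) (s := 7) (by norm_num) (by norm_num)
      (by norm_num) (Or.inl h1)
    omega
  | m11 h =>
    obtain ⟨e⟩ := h
    exact (eq_top_index (eq_top A e Cfsg.Agent.S2060.result) A hg (by rw [hn]; decide)).elim
  | m11' h =>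
    right; left
    refine ⟨rfl, Or.inl ?_⟩
    obtain ⟨e⟩ := h
    exact iso_of_top (eq_top A e Cfsg.Agent.S2060.result) ⟨e⟩
  | m12 h =>
    right; left
    exact ⟨rfl, Or.inr (iso_of_top (Cfsg.Agent.H384.TwoCycSpor.m12_row A h hn) h)⟩
  | m22 h => exact (Cfsg.Agent.H384.TwoCycSpor.m22_row A h hn hc).elim
  | m23 h =>
    obtain ⟨e⟩ := h
    exact (eq_top_index (eq_top A e Cfsg.Agent.S2063.result) A hg (by rw [hn]; decide)).elim
  | m24 h =>
    right; right
    obtain ⟨e⟩ := h
    exact ⟨rfl, iso_of_top (eq_top A e Cfsg.Agent.S2064.result) ⟨e⟩⟩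
  | hs h => exact (Cfsg.Agent.H384.TwoCycSpor.hs_row A h hn hc).elim
  | co3 h => exact (Cfsg.Agent.H384.TwoCycSpor.co3_row A h hn hc).elim

end

/-- S3506 from the hub -/
theorem point_main (hub : Hub.{u, v}) {G : Type u} [Group G] [Finite G] {Ω : Type v} [Fintype Ω] [MulAction G Ω]
    [FaithfulSMul G Ω] [DecidableEq Ω] (hprim : MulAction.IsPreprimitive G Ω)
    (halt : ¬ alternatingGroup Ω ≤ (MulAction.toPermHom G Ω).range)
    (g : G) (k l : ℕ) (hk : 1 ≤ k) (hkl : k ≤ l) (hsum : k + l = Fintype.card Ω) (hcop : Nat.Coprime k l)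
    (ω₁ ω₂ : Ω) (h₁ : Nat.card (MulAction.orbit (Subgroup.zpowers g) ω₁) = k)
    (h₂ : Nat.card (MulAction.orbit (Subgroup.zpowers g) ω₂) = l)
    (h₁₂ : ω₂ ∉ MulAction.orbit (Subgroup.zpowers g) ω₁) :
    k = 1 ∧
    ((MulAction.IsMultiplyPretransitive G Ω 2 ∧ ∃ N : Subgroup G, N.Normal ∧ N ≠ ⊥ ∧ IsMulCommutative N ∧
      ∀ ω : Ω, MulAction.stabilizer N ω = ⊥) ∨
     (∃ p : ℕ, p.Prime ∧ 5 ≤ p ∧ Fintype.card Ω = p + 1 ∧
        ∃ (F : Type) (_ : Field F) (_ : Fintype F), Fintype.card F = p ∧ ∃ T : Subgroup G, T.Normal ∧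
          Nonempty (T ≃* Matrix.ProjectiveSpecialLinearGroup (Fin 2) F)) ∨
     (Fintype.card Ω = 12 ∧ (Cfsg.Spor.IsoM11 G ∨ Cfsg.Spor.IsoM12 G)) ∨
     (Fintype.card Ω = 24 ∧ Cfsg.Spor.IsoM24 G)) := by
  have hk1 : k = 1 := by
    by_contra hcon
    exact halt (alt_le hprim g k l (by omega) hkl hsum hcop ω₁ ω₂ h₁ h₂ h₁₂)
  refine ⟨hk1, ?_⟩
  subst hk1
  -- `g` fixes `ω₁` and is transitive on the rest
  have hfix : ∀ x ∈ orbit (Subgroup.zpowers g) ω₁, x = ω₁ := by
    have h3 : (orbit (Subgroup.zpowers g) ω₁).ncard = 1 := by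
      rw [← Nat.card_coe_set_eq]; exact h₁
    obtain ⟨b, hb⟩ := Set.ncard_eq_one.1 h3
    have h4 : ω₁ ∈ orbit (Subgroup.zpowers g) ω₁ := mem_orbit_self _
    intro x hx
    rw [hb] at h4 hx
    exact (hx : x = b).trans (h4 : ω₁ = b).symm
  have hgfix : g • ω₁ = ω₁ := hfix _ ⟨⟨g, Subgroup.mem_zpowers g⟩, rfl⟩
  have hcov : ∀ x, x ≠ ω₁ → x ∈ orbit (Subgroup.zpowers g) ω₂ := by
    have h3 : orbit (Subgroup.zpowers g) ω₂ = ({ω₁}ᶜ : Set Ω) := by
      refine Set.eq_of_subset_of_ncard_le ?_ ?_ (Set.toFinite _)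
      · intro x hx hc
        apply h₁₂
        have hc' : x = ω₁ := hc
        subst hc'
        have h4 := orbit_eq_iff.2 hx
        rw [h4]
        exact mem_orbit_self _
      · rw [← Nat.card_coe_set_eq (orbit (Subgroup.zpowers g) ω₂), h₂]
        have h5 := Set.ncard_add_ncard_compl ({ω₁} : Set Ω)
        rw [Set.ncard_singleton, Nat.card_eq_fintype_card] at h5
        omega
    intro x hx
    rw [h3]
    exact hx
  have hPt : PtCyc g ω₁ := by
    refine ⟨hgfix, fun x y hx hy => ?_⟩
    have h3 := orbit_eq_iff.2 (hcov x hx)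
    have h4 := hcov y hy
    rw [← h3] at h4
    obtain ⟨⟨c, k, rfl⟩, hk⟩ := h4
    exact ⟨k, hk⟩
  -- 2-transitivity
  have h3n : 3 ≤ Nat.card Ω := by
    by_contra hcon
    push Not at hcon
    apply halt
    intro σ hσ
    rw [Nat.card_eq_fintype_card] at hcon
    have h4 : Nat.card (Equiv.Perm Ω) ∣ 2 := by
      rw [Nat.card_perm, Nat.card_eq_fintype_card]
      have h6 : Fintype.card Ω = 2 := by omega
      rw [h6]
      decide
    have h5 : Nat.card (alternatingGroup Ω) = 1 := by
      have : Nontrivial Ω := Fintype.one_lt_card_iff_nontrivial.1 (by omega)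
      rw [nat_card_alternatingGroup, ← Nat.card_perm]
      have := Nat.le_of_dvd (by norm_num) h4
      have h7 : 0 < Nat.card (Equiv.Perm Ω) := Nat.card_pos
      rcases (Nat.dvd_prime Nat.prime_two).1 h4 with h8 | h8
      · exfalso
        have h9 : Nat.card (Equiv.Perm Ω) = 2 := by
          rw [Nat.card_perm, Nat.card_eq_fintype_card]
          have h6 : Fintype.card Ω = 2 := by omega
          rw [h6]
          decide
        omega
      · omega
    rw [Subgroup.card_eq_one] at h5
    rw [h5, Subgroup.mem_bot] at hσ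
    rw [hσ]
    exact Subgroup.one_mem _
  have hntΩ : Nontrivial Ω := Finite.one_lt_card_iff_nontrivial.1 (by omega)
  have htr : IsPretransitive G Ω := hprim.toIsPretransitive
  have h2 : IsMultiplyPretransitive G Ω 2 := by
    rw [is_two_pretransitive_iff]
    intro a b c d hab hcd
    obtain ⟨x, hx⟩ := exists_smul_eq G a ω₁
    obtain ⟨y, hy⟩ := exists_smul_eq G ω₁ c
    have hxb : x • b ≠ ω₁ := by
      rw [← hx]
      exact fun h => hab (smul_left_cancel x h).symm
    have hyd : y⁻¹ • d ≠ ω₁ := by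
      intro h
      apply hcd
      rw [← hy, ← h, smul_inv_smul]
    obtain ⟨k, hk⟩ := hPt.2 _ _ hxb hyd
    have hk1 : g ^ k • ω₁ = ω₁ := Subgroup.zpow_mem (stabilizer G ω₁) hPt.1 k
    refine ⟨y * (g ^ k * x), ?_, ?_⟩
    · rw [mul_smul, mul_smul, hx, hk1, hy]
    · rw [mul_smul, mul_smul, hk, smul_inv_smul]
  rcases reduction h2 h3n with ⟨N, hN, hN1, hNc, -, -, hst⟩ | ⟨T, A⟩
  · left
    refine ⟨h2, N, hN, hN1, hNc, fun ω => ?_⟩
    rw [eq_bot_iff]
    intro n hn
    rw [Subgroup.mem_bot]
    exact Subtype.ext (hst ω n n.2 hn)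
  · right
    have h5 := point_rows A halt hPt (hub G Ω T A)
    rw [Nat.card_eq_fintype_card] at h5
    exact h5

end Cfsg.Agent.H499.TT
end
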